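import Cfsg.Agent.Lib.Goldschmidt.General.RankFacts.ModelBase
import Cfsg.Agent.Lib.PSL2.PGL

/-!
# The linear model (owner: helper72)

* `model_pgl` : `PGL₂(2ⁿ)` on the projective line, with coordinates on the translations
* `pgl_equiv_psl` : `PGL₂(2ⁿ) ≅ PSL₂(2ⁿ)`
-/

set_option autoImplicit false
set_option linter.unusedSectionVars false
set_option linter.style.haveILetI false

namespace Cfsg.Agent.Goldschmidt.General.Rank

open Cfsg Subgroup MulAction
open scoped commutatorElement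

variable {F : Type} [Field F] [Fintype F] {n : ℕ}

/-- The translations. -/
noncomputable def translHom : Multiplicative F →* PSL2.PGL2 F where
  toFun b := PSL2.aff 1 (Multiplicative.toAdd b)
  map_one' := PSL2.aff_one_zero
  map_mul' x y := by
    rw [PSL2.aff_mul_aff, one_mul, Units.val_one, one_mul, toAdd_mul, add_comm]

/-- The dilations. -/
noncomputable def dilHom : Fˣ →* PSL2.PGL2 F where
  toFun u := PSL2.aff u 0
  map_one' := PSL2.aff_one_zero
  map_mul' x y := by rw [PSL2.aff_mul_aff, mul_zero, add_zero]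

/-- The model `PGL₂(2ⁿ)`. -/
theorem model_pgl (hn : 2 ≤ n) (hF : Fintype.card F = 2 ^ n) : Model (PSL2.PGL2 F) (2 ^ n) := by
  classical
  haveI : Fact (Nat.Prime 2) := ⟨Nat.prime_two⟩
  have h2 : (2 : F) = 0 := by
    have h0 : ((2 : ℕ) : F) ^ n = 0 := by
      rw [← Nat.cast_pow, ← hF]; exact FiniteField.cast_card_eq_zero F
    exact_mod_cast eq_zero_of_pow_eq_zero h0
  haveI : CharP F 2 := CharTwo.of_one_ne_zero_of_two_eq_zero one_ne_zero h2
  have hq4 : 4 ≤ 2 ^ n := le_trans (by norm_num : 4 ≤ 2 ^ 2) (Nat.pow_le_pow_right (by norm_num) hn)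
  obtain ⟨ω, hω⟩ := IsCyclic.exists_generator (α := Fˣ)
  have hωo : orderOf ω = 2 ^ n - 1 := by
    rw [orderOf_eq_card_of_forall_mem_zpowers hω, Nat.card_units, Nat.card_eq_fintype_card, hF]
  have hTi : Function.Injective (translHom (F := F)) := fun x y e =>
    Multiplicative.toAdd.injective (PSL2.aff_inj.1 e).2
  have hDi : Function.Injective (dilHom (F := F)) := fun x y e => (PSL2.aff_inj.1 e).1
  set Q := (translHom (F := F)).range with hQdef
  have hmem : ∀ b : F, PSL2.aff 1 b ∈ Q := fun b => ⟨Multiplicative.ofAdd b, rfl⟩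
  have hcardQ : Nat.card ↥Q = 2 ^ n := by
    rw [← Nat.card_congr (MonoidHom.ofInjective hTi).toEquiv, Nat.card_congr Multiplicative.toAdd,
      Nat.card_eq_fintype_card, hF]
  haveI : Finite (PSL2.PGL2 F) := Finite.of_surjective _ Matrix.ProjGenLinGroup.mk_surjective
  have hodd : Odd (2 ^ n - 1) :=
    Nat.Even.sub_odd Nat.one_le_two_pow ((Nat.even_pow' (by omega)).2 even_two) odd_one
  set t : PSL2.PGL2 F := PSL2.mob 0 1 1 0 (by simp) with ht
  set a : PSL2.Pt F := PSL2.pinf with ha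
  have hta : t • a = PSL2.pt 0 := PSL2.mob_smul_pinf_eq_pt.2 (by simp)
  haveI hfaith : FaithfulSMul (PSL2.PGL2 F) (PSL2.Pt F) :=
    ⟨fun {g g'} hgg => PSL2.eq_of_agree_three (PSL2.pinf_ne_pt (0 : F)) (PSL2.pinf_ne_pt 1)
      (fun e => zero_ne_one (PSL2.pt_injective e)) (hgg _) (hgg _) (hgg _)⟩
  have hD : MulAction.stabilizer (PSL2.PGL2 F) a ⊓ MulAction.stabilizer (PSL2.PGL2 F) (t • a) =
      (dilHom (F := F)).range := by
    ext g
    rw [mem_inf, MulAction.mem_stabilizer_iff, MulAction.mem_stabilizer_iff, hta]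
    refine ⟨fun h => ?_, ?_⟩
    · obtain ⟨u, b, rfl⟩ := PSL2.exists_aff_of_fix h.1
      have h' := h.2
      rw [PSL2.aff_smul_pt, PSL2.pt_inj, mul_zero, zero_add] at h'
      exact ⟨u, by rw [h']; rfl⟩
    · rintro ⟨u, rfl⟩
      exact ⟨PSL2.aff_smul_pinf _ _, (PSL2.aff_smul_pt _ _ _).trans (by simp)⟩
  have hsplit : ∀ u : Fˣ, ∀ b : F, PSL2.aff u b = PSL2.aff 1 b * PSL2.aff u 0 := fun u b => by
    rw [PSL2.aff_mul_aff, one_mul, mul_zero, zero_add]
  have hconj : ∀ (u : Fˣ) (b c : F),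
      PSL2.aff u b * PSL2.aff 1 c * (PSL2.aff u b)⁻¹ = PSL2.aff 1 ((u : F) * c) := fun u b c => by
    rw [mul_inv_eq_iff_eq_mul, PSL2.aff_mul_aff, PSL2.aff_mul_aff, mul_one, one_mul, Units.val_one,
      one_mul, add_comm]
  have hsetup : Cfsg.IsRankOneSetup (PSL2.PGL2 F) (PSL2.Pt F) a t Q := by
    refine ⟨?_, ?_, fun e => ?_, fun e => ?_, ?_, ?_, ?_, ?_, ?_, ?_⟩
    · refine MulAction.is_two_pretransitive_iff.2 fun {b c b' c'} hbc hbc' => ?_
      obtain ⟨g, hg, hg'⟩ := PSL2.exists_map_two hbc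
      obtain ⟨g', hg1, hg1'⟩ := PSL2.exists_map_two hbc'
      exact ⟨g'⁻¹ * g, by rw [mul_smul, hg, ← hg1, inv_smul_smul],
        by rw [mul_smul, hg', ← hg1', inv_smul_smul]⟩
    · rw [ht, PSL2.mob_mul_mob, PSL2.mob_eq_one_iff]
      simp
    · rw [ht, PSL2.mob_eq_one_iff] at e
      exact one_ne_zero e.1
    · exact PSL2.pt_ne_pinf 0 (hta.symm.trans e)
    · rintro _ ⟨b, rfl⟩
      exact PSL2.aff_smul_pinf _ _
    · rintro g hg _ ⟨c, rfl⟩
      obtain ⟨u, b, rfl⟩ := PSL2.exists_aff_of_fix hg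
      exact (hconj u b _).symm ▸ hmem _
    · refine (Subgroup.eq_bot_iff_forall _).2 ?_
      rintro _ ⟨⟨b, rfl⟩, hg⟩
      replace hg : PSL2.aff 1 (Multiplicative.toAdd b) • (t • a) = t • a := hg
      rw [hta, PSL2.aff_smul_pt, PSL2.pt_inj, mul_zero, zero_add] at hg
      show PSL2.aff 1 (Multiplicative.toAdd b) = 1
      rw [hg, PSL2.aff_one_zero]
    · refine le_antisymm (sup_le ?_ inf_le_left) fun g hg => ?_
      · rintro _ ⟨b, rfl⟩
        exact PSL2.aff_smul_pinf _ _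
      · obtain ⟨u, b, rfl⟩ := PSL2.exists_aff_of_fix hg
        rw [hsplit]
        exact mul_mem_sup (hmem b) (hD ▸ ⟨u, rfl⟩)
    · rw [hcardQ]; exact (Nat.even_pow' (by omega)).2 even_two
    · rw [hD, ← Nat.card_congr (MonoidHom.ofInjective hDi).toEquiv, Nat.card_units,
        Nat.card_eq_fintype_card, hF]
      exact hodd
  have habel : Q ≤ centralizer (Q : Set (PSL2.PGL2 F)) := by
    rintro _ ⟨b, rfl⟩
    refine mem_centralizer_iff.2 ?_
    rintro _ ⟨c, rfl⟩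
    rw [← map_mul, ← map_mul, mul_comm]
  have hcen : centre Q = Q := inf_eq_left.2 habel
  have hsq : ∀ x ∈ Q, x * x = 1 := by
    rintro _ ⟨b, rfl⟩
    show PSL2.aff 1 _ * PSL2.aff 1 _ = 1
    rw [PSL2.aff_mul_aff, PSL2.aff_eq_one_iff, mul_one, Units.val_one, one_mul]
    exact ⟨rfl, CharTwo.add_self_eq_zero _⟩
  have hinv : ∀ b : F, Function.invFun (fun b : F => PSL2.aff 1 b) (PSL2.aff 1 b) = b :=
    Function.leftInverse_invFun fun x y e => (PSL2.aff_inj.1 e).2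
  have hk : dilHom ω ∈ normalizer (Q : Set (PSL2.PGL2 F)) :=
    stab_le_normalizer hsetup (PSL2.aff_smul_pinf _ _)
  refine ⟨PSL2.Pt F, inferInstance, hfaith, a, t, Q, hsetup,
    ⟨PSL2.aff 1 1, PSL2.aff 1 (ω : F), ?_, ?_, ?_, hsq _ (hmem _), hsq _ (hmem _),
      mem_centralizer_iff.1 (habel (hmem _)) _ (hmem _)⟩,
    IsPGroup.of_card hcardQ, ⟨n, hn, rfl⟩, ?_,
    F, inferInstance, inferInstance, inferInstance, dilHom ω, fun _ => 0,
    fun g => Function.invFun (fun b : F => PSL2.aff 1 b) g, 1, (ω : F), hk, ?_, ?_, ?_, ?_, ?_, ?_,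
    ?_, ?_, Or.inl habel⟩
  · rw [Ne, PSL2.aff_eq_one_iff]; simp
  · rw [Ne, PSL2.aff_eq_one_iff]; simp
  · intro e
    have h1 : ω = 1 := Units.ext (PSL2.aff_inj.1 e).2.symm
    rw [h1, orderOf_one] at hωo
    omega
  · refine ⟨by rw [hcen, hcardQ], fun x hx => ?_, fun x hx => ?_, fun x hx y hy => ?_,
      fun _ u hu hun => absurd (hcen.ge hu) hun⟩
    · rw [hcen]; exact ⟨fun _ => hx, fun _ => hsq x hx⟩
    · rw [hsq x hx]; exact one_mem _
    · rw [commutatorElement_eq_one_iff_mul_comm.2 (mem_centralizer_iff.1 (habel hy) x hx)]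
      exact one_mem _
  · rw [orderOf_injective dilHom hDi, hωo]; exact hodd
  · intro c hc
    obtain ⟨u, b, rfl⟩ := PSL2.exists_aff_of_fix (normalizer_le_stab hsetup hc)
    obtain ⟨i, hi⟩ := mem_powers_iff_mem_zpowers.2 (hω u)
    refine ⟨_, hmem b, i, ?_⟩
    rw [hsplit, ← map_pow, show ω ^ i = u from hi]
    rfl
  · intro x _ y _; simp
  · intro x hx; exact ⟨fun _ => hcen.ge hx, fun _ => rfl⟩
  · intro x _; simp
  · intro x hx y hy
    obtain ⟨b, rfl⟩ := centre_le hx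
    obtain ⟨c, rfl⟩ := centre_le hy
    rw [← map_mul]
    show Function.invFun _ (PSL2.aff 1 _) = Function.invFun _ (PSL2.aff 1 _) + Function.invFun _ (PSL2.aff 1 _)
    rw [hinv, hinv, hinv, toAdd_mul]
  · intro x hx h0
    obtain ⟨b, rfl⟩ := centre_le hx
    change Function.invFun _ (PSL2.aff 1 _) = (0 : F) at h0
    rw [hinv] at h0
    show PSL2.aff 1 _ = 1
    rw [h0, PSL2.aff_one_zero]
  · intro x hx
    obtain ⟨b, rfl⟩ := centre_le hx
    show Function.invFun _ (PSL2.aff ω 0 * PSL2.aff 1 _ * (PSL2.aff ω 0)⁻¹) =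
      (ω : F) * Function.invFun _ (PSL2.aff 1 _)
    rw [hconj, hinv, hinv]

/-- `PGL₂ ≅ PSL₂` in characteristic two. -/
theorem pgl_equiv_psl (hn : 1 ≤ n) (hF : Fintype.card F = 2 ^ n) :
    Nonempty (Matrix.ProjectiveSpecialLinearGroup (Fin 2) F ≃* PSL2.PGL2 F) := by
  have hchar : ringChar F = 2 := FiniteField.even_card_iff_char_two.2 (by
    rw [hF, Nat.pow_mod, Nat.mod_self, zero_pow (by omega), Nat.zero_mod])
  refine ⟨MulEquiv.ofBijective _ ⟨Matrix.ProjectiveSpecialLinearGroup.toPGL_injective, fun x => ?_⟩⟩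
  obtain ⟨u, rfl⟩ := Matrix.ProjGenLinGroup.mk_surjective x
  exact (PSL2.mk_mem_range_iff u).2 (FiniteField.isSquare_of_char_two hchar _)

end Cfsg.Agent.Goldschmidt.General.Rank
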