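import Cfsg.Agent.Lib.Goldschmidt.General.RankFacts.ModelBase
import Cfsg.Agent.Lib.Suzuki.Simple
import Cfsg.Agent.Lib.Suzuki.Centralizers

/-!
# The Suzuki model (owner: helper72)

* `model_sz` : `Sz(2^(2m+1))` on its ovoid, with coordinates on the unipotent subgroup
-/

set_option autoImplicit false
set_option linter.unusedSectionVars false
set_option linter.style.haveILetI false

namespace Cfsg.Agent.Goldschmidt.General.Rank

open Cfsg Subgroup MulAction
open scoped commutatorElement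

variable {F : Type} [Field F] [Fintype F] {m : ℕ}

/-- The Suzuki model. -/
theorem model_sz (hm : 1 ≤ m) (hF : Fintype.card F = 2 ^ (2 * m + 1)) :
    Model (Cfsg.Sz F m) (2 ^ (2 * m + 1)) := by
  classical
  haveI := Suzuki.charTwo hF
  haveI : Fact (Nat.Prime 2) := ⟨Nat.prime_two⟩
  set q := 2 ^ (2 * m + 1) with hqdef
  have hq8 : 8 ≤ q :=
    le_trans (by norm_num : 8 ≤ 2 ^ 3) (Nat.pow_le_pow_right (by norm_num) (by omega))
  obtain ⟨ω, hω⟩ := IsCyclic.exists_generator (α := Fˣ)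
  have hωo : orderOf ω = q - 1 := by
    rw [orderOf_eq_card_of_forall_mem_zpowers hω, Nat.card_units, Nat.card_eq_fintype_card, hF]
  have hxo : orderOf (ω : F) = q - 1 := by rw [orderOf_units, hωo]
  have hnd : ∀ i : ℕ, ∃ b, b ≤ 2 * m ∧ (ω : F) ^ 2 ^ i = (ω : F) ^ 2 ^ b := fun i => by
    refine ⟨i % (2 * m + 1), by have := Nat.mod_lt i (by omega : 2 * m + 1 > 0); omega, ?_⟩
    conv_lhs => rw [← Nat.mod_add_div i (2 * m + 1), pow_add, mul_comm, pow_mul]
    congr 1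
    have h1 : ∀ j : ℕ, (ω : F) ^ (2 ^ (2 * m + 1)) ^ j = (ω : F) := fun j => by
      have h2 := FiniteField.pow_card_pow j (ω : F)
      rw [hF] at h2
      exact h2
    rw [pow_mul]
    exact h1 _
  have hlt : ∀ b, b ≤ 2 * m → 2 ^ b < q - 1 := fun b hb => by
    have h1 : 2 ^ b ≤ 2 ^ (2 * m) := Nat.pow_le_pow_right (by norm_num) hb
    have h2 : q = 2 * 2 ^ (2 * m) := by rw [hqdef, pow_succ']
    have h3 : 4 ≤ 2 ^ (2 * m) :=
      le_trans (by norm_num : 4 ≤ 2 ^ 2) (Nat.pow_le_pow_right (by norm_num) (by omega))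
    omega
  have hform : ∀ i : ℕ, (ω : F) ^ 2 ^ i * (ω : F) ≠ 1 := fun i e => by
    rw [← pow_succ, ← orderOf_dvd_iff_pow_eq_one, hxo] at e
    exact not_dvd_two_pow_add_one (by omega) i e
  have hth : ∀ x : F, Suzuki.th m x * x = x ^ (2 ^ (m + 1) + 1) := fun x => by
    rw [Suzuki.th, pow_succ x]
  have hhom : ∀ i : ℕ, (ω : F) ^ 2 ^ i ≠ Suzuki.th m (ω : F) * (ω : F) := fun i e => by
    obtain ⟨b, hb, hbe⟩ := hnd i
    rw [hbe, hth] at e
    have h1 : 2 ^ (m + 1) + 1 < q - 1 := by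
      have h4 : 2 * 2 ^ (m + 1) ≤ q := by
        rw [← pow_succ']; exact Nat.pow_le_pow_right (by norm_num) (by omega)
      omega
    have h5 := pow_injOn_Iio_orderOf (x := (ω : F)) (by rw [Set.mem_Iio, hxo]; exact hlt b hb)
      (by rw [Set.mem_Iio, hxo]; exact h1) e
    rcases b with _ | b
    · rw [pow_zero] at h5
      have := Nat.two_pow_pos (m + 1)
      omega
    · rw [pow_succ', pow_succ'] at h5
      omega
  have hdel : 2 ≤ m → ∀ i : ℕ, (ω : F) ^ 2 ^ i * (Suzuki.th m (ω : F) * (ω : F)) ≠ 1 := fun hm2 i e => by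
    obtain ⟨b, hb, hbe⟩ := hnd i
    rw [hbe, hth, ← pow_add, ← orderOf_dvd_iff_pow_eq_one, hxo] at e
    have h1 : 2 ^ b ≤ 2 ^ (2 * m) := Nat.pow_le_pow_right (by norm_num) hb
    have h2 : q = 2 * 2 ^ (2 * m) := by rw [hqdef, pow_succ']
    have h3 : 2 * 2 ^ (m + 1) ≤ 2 ^ (2 * m) := by
      rw [← pow_succ']; exact Nat.pow_le_pow_right (by norm_num) (by omega)
    have h4 : 8 ≤ 2 ^ (m + 1) :=
      le_trans (by norm_num : 8 ≤ 2 ^ 3) (Nat.pow_le_pow_right (by norm_num) (by omega))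
    have h5 := Nat.le_of_dvd (Nat.add_pos_right _ (Nat.succ_pos _)) e
    generalize 2 ^ b = u at h1 h5
    generalize 2 ^ (m + 1) = v at h3 h4 h5
    generalize 2 ^ (2 * m) = w at h1 h2 h3
    omega
  -- the set-up
  have hfix : ∀ g : Cfsg.Sz F m, g • (⟨suzukiPointInfinity F, Suzuki.infinity_mem⟩ :
      suzukiOvoid F m) = ⟨suzukiPointInfinity F, Suzuki.infinity_mem⟩ ↔
      g • suzukiPointInfinity F = suzukiPointInfinity F :=
    fun g => ⟨fun h => congrArg Subtype.val h, fun h => Subtype.ext h⟩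
  have hfix0 : ∀ g : Cfsg.Sz F m, g • (⟨suzukiPointZero F, Suzuki.pointZero_mem⟩ :
      suzukiOvoid F m) = ⟨suzukiPointZero F, Suzuki.pointZero_mem⟩ ↔
      g • suzukiPointZero F = suzukiPointZero F :=
    fun g => ⟨fun h => congrArg Subtype.val h, fun h => Subtype.ext h⟩
  haveI hfaith : FaithfulSMul (Cfsg.Sz F m) (suzukiOvoid F m) := by
    refine ⟨fun {g g'} hgg => ?_⟩
    have hh : ∀ p ∈ suzukiOvoid F m, (g'⁻¹ * g) • p = p := fun p hp => by
      rw [mul_smul, show g • p = g' • p from congrArg Subtype.val (hgg ⟨p, hp⟩), inv_smul_smul]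
    exact (inv_mul_eq_one.1 (Suzuki.eq_one_of_fix_three hm hF Suzuki.infinity_mem
      Suzuki.pointZero_mem (Suzuki.pt_mem (1 : F) 0) Suzuki.pointZero_ne_infinity.symm
      (Suzuki.pt_ne_infinity (1 : F) 0).symm (fun e => by
        rw [← Suzuki.pt_zero_zero (m := m)] at e
        exact one_ne_zero (Suzuki.pt_inj e).1.symm)
      (hh _ Suzuki.infinity_mem) (hh _ Suzuki.pointZero_mem) (hh _ (Suzuki.pt_mem _ _)))).symm
  set a : suzukiOvoid F m := ⟨suzukiPointInfinity F, Suzuki.infinity_mem⟩ with ha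
  set t := Suzuki.wSz hF with htd
  have hta : t • a = ⟨suzukiPointZero F, Suzuki.pointZero_mem⟩ :=
    Subtype.ext (Suzuki.wSz_smul_infinity hF)
  have hsetup : Cfsg.IsRankOneSetup (Cfsg.Sz F m) (suzukiOvoid F m) a t (Suzuki.uSub hF) := by
    refine ⟨Suzuki.twoTransitive hF, Suzuki.wSz_mul_self hF, fun e => ?_, fun e => ?_, ?_, ?_, ?_, ?_, ?_, ?_⟩
    · refine Suzuki.pointZero_ne_infinity (F := F) ?_
      rw [← Suzuki.wSz_smul_infinity hF, ← htd, e, one_smul]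
    · exact Suzuki.pointZero_ne_infinity ((congrArg Subtype.val hta).symm.trans ((hfix t).1 e))
    · rintro _ ⟨x, y, rfl⟩
      exact (hfix _).2 (Suzuki.tSz_smul_infinity hF x y)
    · rintro g hg _ ⟨x, y, rfl⟩
      obtain ⟨c, d, u, rfl⟩ := Suzuki.exists_tSz_dSz_of_fix hm hF ((hfix g).1 hg)
      rw [show Suzuki.tSz hF c d * Suzuki.dSz hF u * Suzuki.tSz hF x y *
          (Suzuki.tSz hF c d * Suzuki.dSz hF u)⁻¹ =
        Suzuki.tSz hF c d * (Suzuki.dSz hF u * Suzuki.tSz hF x y) * (Suzuki.dSz hF u)⁻¹ *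
          (Suzuki.tSz hF c d)⁻¹ by group, Suzuki.dSz_conj_tSz]
      rw [← mul_assoc, mul_inv_cancel_right]
      exact mul_mem (mul_mem (Suzuki.tSz_mem_uSub hF c d) (Suzuki.tSz_mem_uSub hF _ _))
        (inv_mem (Suzuki.tSz_mem_uSub hF c d))
    · refine (Subgroup.eq_bot_iff_forall _).2 ?_
      rintro _ ⟨⟨x, y, rfl⟩, hg⟩
      replace hg : Suzuki.tSz hF x y • (t • a) = t • a := hg
      rw [hta, hfix0, Suzuki.tSz_smul_zero, ← Suzuki.pt_zero_zero (m := m)] at hg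
      exact (Suzuki.tSz_eq_one_iff hF).2 (Suzuki.pt_inj hg)
    · refine le_antisymm (sup_le ?_ inf_le_left) fun g hg => ?_
      · rintro _ ⟨x, y, rfl⟩
        exact (hfix _).2 (Suzuki.tSz_smul_infinity hF x y)
      · obtain ⟨c, d, u, rfl⟩ := Suzuki.exists_tSz_dSz_of_fix hm hF ((hfix g).1 hg)
        refine mul_mem_sup (Suzuki.tSz_mem_uSub hF c d) ⟨(hfix _).2 (Suzuki.dSz_smul_infinity hF u), ?_⟩
        show Suzuki.dSz hF u • (t • a) = t • a
        rw [hta]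
        exact (hfix0 _).2 (Suzuki.dSz_smul_zero hF u)
    · rw [Suzuki.card_uSub, Nat.even_pow]
      exact ⟨(Nat.even_pow' (by omega)).2 even_two, two_ne_zero⟩
    · have e : MulAction.stabilizer (Cfsg.Sz F m) a ⊓ MulAction.stabilizer (Cfsg.Sz F m) (t • a) =
          Suzuki.dSub hF := by
        ext g
        rw [Suzuki.mem_dSub, mem_inf, MulAction.mem_stabilizer_iff, MulAction.mem_stabilizer_iff, hta,
          hfix, hfix0]
        refine ⟨fun h => Suzuki.exists_dSz_of_fix hm hF h.1 h.2, ?_⟩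
        rintro ⟨u, rfl⟩
        exact ⟨Suzuki.dSz_smul_infinity hF u, Suzuki.dSz_smul_zero hF u⟩
      rw [e, Suzuki.card_dSub]
      exact Nat.Even.sub_odd (Nat.one_le_two_pow) ((Nat.even_pow' (by omega)).2 even_two) odd_one
  -- the coordinates
  let T : F × F → Cfsg.Sz F m := fun p => Suzuki.tSz hF p.1 p.2
  have hT : Function.Injective T := fun p p' e =>
    Prod.ext (Suzuki.tSz_inj hF e).1 (Suzuki.tSz_inj hF e).2
  have hTi : ∀ x y, Function.invFun T (Suzuki.tSz hF x y) = (x, y) := fun x y =>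
    Function.leftInverse_invFun hT (x, y)
  have hcen : ∀ x y, Suzuki.tSz hF x y ∈ centre (Suzuki.uSub hF) ↔ x = 0 := fun x y => by
    have h1 : Suzuki.tSz hF x y ∈ centre (Suzuki.uSub hF) ↔
        (⟨Suzuki.tSz hF x y, Suzuki.tSz_mem_uSub hF x y⟩ : ↥(Suzuki.uSub hF)) ∈
          Subgroup.center ↥(Suzuki.uSub hF) := by
      rw [mem_centre, Subgroup.mem_center_iff]
      exact ⟨fun h v => Subtype.ext (h.2 v v.2),
        fun h => ⟨Suzuki.tSz_mem_uSub hF x y, fun v hv => congrArg Subtype.val (h ⟨v, hv⟩)⟩⟩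
    rw [h1, Suzuki.uSub_center_eq hm hF, mem_subgroupOf, Suzuki.mem_zSub]
    exact ⟨fun ⟨b, hb⟩ => (Suzuki.tSz_inj hF hb).1, fun h => ⟨y, by rw [h]⟩⟩
  have hcz : centre (Suzuki.uSub hF) = Suzuki.zSub hF := SetLike.ext fun g => by
    refine ⟨fun hg => ?_, fun hg => ?_⟩
    · obtain ⟨x, y, rfl⟩ := centre_le hg
      exact ⟨y, by rw [(hcen x y).1 hg]⟩
    · obtain ⟨y, rfl⟩ := hg
      exact (hcen 0 y).2 rfl
  have hsq : ∀ x y, Suzuki.tSz hF x y * Suzuki.tSz hF x y =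
      Suzuki.tSz hF 0 (Suzuki.th m x * x) := fun x y => by
    rw [Suzuki.tSz_mul]
    congr 1 <;> grind
  have hconj : ∀ x y, Suzuki.dSz hF ω * Suzuki.tSz hF x y * (Suzuki.dSz hF ω)⁻¹ =
      Suzuki.tSz hF ((ω : F) * x) (Suzuki.th m (ω : F) * (ω : F) * y) := fun x y => by
    rw [Suzuki.dSz_conj_tSz, mul_inv_cancel_right]
  have hkN : Suzuki.dSz hF ω ∈ normalizer (Suzuki.uSub hF : Set (Cfsg.Sz F m)) :=
    stab_le_normalizer hsetup ((hfix _).2 (Suzuki.dSz_smul_infinity hF ω))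
  have hko : orderOf (Suzuki.dSz hF ω) = q - 1 := by
    rw [← hωo]
    exact orderOf_injective (Suzuki.dHom hF) (fun u v e => Suzuki.dSz_inj hF e) ω
  have hodd : Odd (q - 1) :=
    Nat.Even.sub_odd (Nat.one_le_two_pow) ((Nat.even_pow' (by omega)).2 even_two) odd_one
  have hU := Suzuki.isPGroup_uSub (m := m) hF
  refine ⟨suzukiOvoid F m, inferInstance, hfaith, a, t, Suzuki.uSub hF, hsetup,
    ⟨Suzuki.tSz hF 0 1, Suzuki.tSz hF 0 (ω : F), ?_, ?_, ?_, ?_, ?_, ?_⟩, hU, ⟨_, by omega, rfl⟩, ?_,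
    F, inferInstance, inferInstance, inferInstance, Suzuki.dSz hF ω,
    fun g => (Function.invFun T g).1, fun g => (Function.invFun T g).2, (ω : F),
    Suzuki.th m (ω : F) * (ω : F), hkN, hko ▸ hodd, ?_, ?_, ?_, ?_, ?_, ?_, ?_,
    Or.inr ⟨hform, hhom, ?_⟩⟩
  · exact fun e => one_ne_zero ((Suzuki.tSz_eq_one_iff hF).1 e).2
  · exact fun e => ω.ne_zero ((Suzuki.tSz_eq_one_iff hF).1 e).2
  · intro e
    have h1 : ω = 1 := Units.ext (Suzuki.tSz_inj hF e).2.symm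
    rw [h1, orderOf_one] at hωo
    omega
  · rw [hsq]; simp [Suzuki.tSz_zero]
  · rw [hsq]; simp [Suzuki.tSz_zero]
  · rw [Suzuki.tSz_mul, Suzuki.tSz_mul]
    congr 1 <;> simp <;> ring
  · refine ⟨by rw [hcz, Suzuki.card_zSub], ?_, ?_, ?_, fun h4 => absurd h4 (by omega)⟩
    · rintro _ ⟨x, y, rfl⟩
      rw [hsq, hcen, Suzuki.tSz_eq_one_iff]
      refine ⟨fun h => ?_, fun h => by simp [h]⟩
      rcases mul_eq_zero.mp h.2 with h' | h'
      · exact Suzuki.th_eq_zero.mp h'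
      · exact h'
    · rintro _ ⟨x, y, rfl⟩
      rw [hsq, hcen]
    · rintro _ ⟨x, y, rfl⟩ _ ⟨x', y', rfl⟩
      rw [Suzuki.commutator_tSz, hcen]
  · refine dec_of_card hU hkN (hko ▸ hodd) ?_
    have h1 := card_normalizer hsetup
    rw [Suzuki.card_uSub, Suzuki.card_sz hm hF, ← hqdef] at h1
    rw [Suzuki.card_uSub, hko, ← hqdef]
    exact le_of_eq (Nat.eq_of_mul_eq_mul_right (by positivity : 0 < q ^ 2 + 1)
      (by rw [← h1]; ring))
  · rintro _ ⟨x, y, rfl⟩ _ ⟨x', y', rfl⟩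
    simp only [Suzuki.tSz_mul, hTi]
  · rintro _ ⟨x, y, rfl⟩
    simp only [hTi, hcen]
  · rintro _ ⟨x, y, rfl⟩
    simp only [hconj, hTi]
  · intro g hg g' hg'
    obtain ⟨x, y, rfl⟩ := centre_le hg
    obtain ⟨x', y', rfl⟩ := centre_le hg'
    simp only [Suzuki.tSz_mul, hTi, (hcen x y).1 hg, Suzuki.th_zero, zero_mul, add_zero]
  · intro g hg h0
    obtain ⟨x, y, rfl⟩ := centre_le hg
    simp only [hTi] at h0
    rw [(hcen x y).1 hg, h0, Suzuki.tSz_zero]
  · intro g hg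
    obtain ⟨x, y, rfl⟩ := centre_le hg
    simp only [hconj, hTi]
  · rcases Nat.lt_or_ge m 2 with hm2 | hm2
    · have hm1 : m = 1 := by omega
      refine Or.inr ⟨by rw [hqdef, hm1]; norm_num, by rw [Suzuki.card_uSub, hm1]; norm_num, ?_⟩
      rintro _ ⟨x, y, rfl⟩ _ ⟨x', y', rfl⟩ hx hx'
      rw [hcen] at hx hx'
      obtain ⟨i, hi⟩ := mem_powers_iff_mem_zpowers.2 (hω (Units.mk0 (x' / x) (div_ne_zero hx' hx)))
      simp only at hi
      refine ⟨i, ?_⟩
      have hpow : Suzuki.dSz hF ω ^ i = Suzuki.dSz hF (Units.mk0 (x' / x) (div_ne_zero hx' hx)) := by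
        rw [← hi]
        exact ((Suzuki.dHom hF).map_pow ω i).symm
      rw [hpow, Suzuki.dSz_conj_tSz, mul_inv_cancel_right, Suzuki.tSz_inv, Suzuki.tSz_mul, hcen,
        Units.val_mk0, div_mul_cancel₀ _ hx]
      exact CharTwo.add_self_eq_zero x'
    · exact Or.inl (hdel hm2)

end Cfsg.Agent.Goldschmidt.General.Rank
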