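import Cfsg.Agent.Lib.SuzukiRankOne.UnitaryModel

/-!
# The torus of `SU₃(q)`, `q` even (owner: helper72)

* `torMat` : the matrix scaling `r`, `s`, `e` by `c`, `d`, `f`
* `exists_torHom` : the homomorphism `Fˣ →* SU₃(q)` with image the two-point stabiliser torus
* `torMat_mat3` : its action on the Sylow coordinates
-/

set_option autoImplicit false
set_option linter.unusedSectionVars false

namespace Cfsg.Agent.Goldschmidt.General.Rank

open Matrix Cfsg.Agent.Unitary

variable {F : Type*} [Field F]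

/-- The matrix of the torus element. -/
def torMat (l c d f : F) : Matrix (Fin 3) (Fin 3) F :=
  !![c * (1 + l) + d * l, (c + d) * l, 0; (c + d) * (l + 1), c * l + d * (l + 1), 0; 0, 0, f]

theorem torMat_one (h2 : (2 : F) = 0) (l : F) : torMat l 1 1 1 = 1 := by
  ext i j
  fin_cases i <;> fin_cases j <;> simp [torMat] <;> grind

theorem torMat_mul (h2 : (2 : F) = 0) (l c d f c' d' f' : F) :
    torMat l c d f * torMat l c' d' f' = torMat l (c * c') (d * d') (f * f') := by
  ext i j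
  fin_cases i <;> fin_cases j <;>
    simp [torMat, Matrix.mul_apply, Fin.sum_univ_three] <;> grind

theorem det_torMat (h2 : (2 : F) = 0) (l c d f : F) : (torMat l c d f).det = c * d * f := by
  simp [torMat, Matrix.det_fin_three]
  grind

variable [Fintype F] {q : ℕ}

theorem torMat_unitary (hF : Fintype.card F = q ^ 2) (h2 : (2 : F) = 0) {l : F} (hl : l + l ^ q = 1)
    {c d f : F} (hcd : c * d ^ q = 1) (hdc : d * c ^ q = 1) (hf : f * f ^ q = 1) (u v : Fin 3 → F) :
    Cfsg.hermForm 3 F q (torMat l c d f *ᵥ u) (torMat l c d f *ᵥ v) = Cfsg.hermForm 3 F q u v := by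
  simp only [Cfsg.hermForm, Fin.sum_univ_three, torMat, Matrix.mulVec, dotProduct]
  simp [add_pow_q hF, mul_pow]
  have hlq : l ^ q = 1 + l := by linear_combination hl - l * h2
  rw [hlq]
  generalize c ^ q = C at hdc ⊢
  generalize d ^ q = D at hcd ⊢
  generalize f ^ q = E at hf ⊢
  generalize u 0 = x
  generalize u 1 = y
  generalize u 2 = z
  generalize v 0 ^ q = X
  generalize v 1 ^ q = Y
  generalize v 2 ^ q = Z
  grind

/-- The torus as a homomorphism. -/
theorem exists_torHom (hF : Fintype.card F = q ^ 2) (h2 : (2 : F) = 0) (hq : 1 ≤ q) {l : F}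
    (hl : l + l ^ q = 1) :
    ∃ T : Fˣ →* Cfsg.SU 3 F q, ∀ c : Fˣ,
      ((T c : Matrix.SpecialLinearGroup (Fin 3) F) : Matrix (Fin 3) (Fin 3) F) =
        torMat l (c : F) ((c : F)⁻¹ ^ q) ((c : F) ^ (q - 1)) := by
  have hdet : ∀ c : Fˣ, (torMat l (c : F) ((c : F)⁻¹ ^ q) ((c : F) ^ (q - 1))).det = 1 := fun c => by
    rw [det_torMat h2]
    obtain ⟨r, rfl⟩ : ∃ r, q = r + 1 := ⟨q - 1, by omega⟩
    rw [Nat.add_sub_cancel, inv_pow, pow_succ]
    field_simp [c.ne_zero]
  have hmem : ∀ c : Fˣ, (⟨_, hdet c⟩ : Matrix.SpecialLinearGroup (Fin 3) F) ∈ Cfsg.SU 3 F q := by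
    intro c u v
    have hq1 : ((c : F) ^ q) ^ q = (c : F) := pow_q_pow_q hF _
    refine torMat_unitary hF h2 hl ?_ ?_ ?_ u v
    · rw [inv_pow, inv_pow, hq1, mul_inv_cancel₀ c.ne_zero]
    · rw [← mul_pow, inv_mul_cancel₀ c.ne_zero, one_pow]
    · obtain ⟨r, rfl⟩ : ∃ r, q = r + 1 := ⟨q - 1, by omega⟩
      have h3 : (c : F) ^ (r + 1) * ((c : F) ^ r) ^ (r + 1) = c := by
        rw [← mul_pow, ← pow_succ']
        exact hq1
      rw [Nat.add_sub_cancel]
      refine mul_left_cancel₀ c.ne_zero ?_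
      rw [← mul_assoc, ← pow_succ', mul_one]
      exact h3
  refine ⟨MonoidHom.mk' (fun c => (⟨⟨_, hdet c⟩, hmem c⟩ : Cfsg.SU 3 F q)) fun c c' => ?_, fun c => rfl⟩
  apply Subtype.ext
  apply Subtype.ext
  show torMat l _ _ _ = torMat l _ _ _ * torMat l _ _ _
  rw [torMat_mul h2, Units.val_mul, mul_inv, mul_pow, mul_pow]

/-- The action on the Sylow coordinates. -/
theorem torMat_mat3 (h2 : (2 : F) = 0) {l c d f a b a' b' : F}
    (ha : f * a = a' * d) (ha' : c * a ^ q = a' ^ q * f) (hb : c * b = b' * d) :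
    torMat l c d f * mat3 q a b = mat3 q a' b' * torMat l c d f := by
  generalize hA : a ^ q = A at ha'
  generalize hA' : a' ^ q = A' at ha'
  ext i j
  fin_cases i <;> fin_cases j <;>
    simp [torMat, mat3, Matrix.mul_apply, Fin.sum_univ_three, hA, hA'] <;> grind

end Cfsg.Agent.Goldschmidt.General.Rank
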