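import Cfsg.Agent.Lib.Goldschmidt.General.RankFacts.ModelBase
import Cfsg.Agent.Lib.Goldschmidt.General.RankFacts.UnitaryTorus
import Cfsg.Agent.Lib.Goldschmidt.Facts.Unitary

/-!
# `RankFacts` for `PSU₃(2ⁿ)` (owner: helper72)

* `model_psu`, `rankFacts_psu`
-/

set_option autoImplicit false
set_option linter.unusedSectionVars false
set_option linter.style.haveILetI false

namespace Cfsg.Agent.Goldschmidt.General.Rank

open Cfsg.Agent.Unitary Subgroup

universe u v

/-- An odd element of the normaliser centralising `Z` and without fixed point on `P / Z`. -/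
def Centralizing {L : Type u} [Group L] (P : Subgroup L) : Prop :=
  ∃ z ∈ normalizer (P : Set L), Odd (orderOf z) ∧ z ≠ 1 ∧ (∀ c ∈ centre P, z * c = c * z) ∧
    ∀ x ∈ P, x⁻¹ * (z * x * z⁻¹) ∈ centre P → x ∈ centre P

theorem Centralizing.map {L : Type u} {M : Type v} [Group L] [Group M] {P : Subgroup L}
    (h : Centralizing P) (e : L ≃* M) : Centralizing (P.map e.toMonoidHom) := by
  obtain ⟨z, hz, hodd, h1, hc, hx⟩ := h
  refine ⟨e z, (mem_normalizer_map e).2 (by rw [e.symm_apply_apply]; exact hz),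
    by rw [MulEquiv.orderOf_eq]; exact hodd, fun he => h1 (e.injective (he.trans (map_one e).symm)),
    fun c hc' => e.symm.injective ?_, fun x hx' hm => (mem_centre_map e).2 (hx _ ((mem_map_iff e).1 hx') ?_)⟩
  · rw [map_mul, map_mul, e.symm_apply_apply, hc _ ((mem_centre_map e).1 hc')]
  · have h2 := (mem_centre_map e).1 hm
    rwa [map_mul, map_mul, map_mul, map_inv, map_inv, e.symm_apply_apply] at h2

/-- The model `PSU₃(2ⁿ)`. -/
theorem model_psu {F : Type} [Field F] [Fintype F] {n : ℕ} (hn : 2 ≤ n)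
    (hF : Fintype.card F = (2 ^ n) ^ 2) : Model (Cfsg.PSU 3 F (2 ^ n)) (2 ^ n) ∧
      ∀ P : Sylow 2 (Cfsg.PSU 3 F (2 ^ n)), Centralizing (P : Subgroup (Cfsg.PSU 3 F (2 ^ n))) := by
  classical
  haveI : Fact (Nat.Prime 2) := ⟨Nat.prime_two⟩
  have h2 : (2 : F) = 0 := by
    have h0 : ((2 : ℕ) : F) ^ (n * 2) = 0 := by
      rw [← Nat.cast_pow, pow_mul, ← hF]; exact FiniteField.cast_card_eq_zero F
    exact_mod_cast eq_zero_of_pow_eq_zero h0
  haveI : CharP F 2 := CharTwo.of_one_ne_zero_of_two_eq_zero one_ne_zero h2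
  obtain ⟨Ω, _, _, a₀, t₀, Q₀, h, hinv, hQ₀, -, -, hQcard⟩ := SuzukiRankOne.unitaryModel F n hn hF
  set q := 2 ^ n with hqdef
  have hq4 : 4 ≤ q := le_trans (by norm_num : 4 ≤ 2 ^ 2) (Nat.pow_le_pow_right (by norm_num) hn)
  obtain ⟨l, hl⟩ := exists_trace_eq hF (c := (1 : F)) (one_pow q)
  have hl0 : l ≠ 0 := fun e => by
    rw [e, zero_pow (by omega), add_zero] at hl
    exact zero_ne_one hl
  -- the Sylow subgroup
  let π : sylThree hF h2 →* Cfsg.PSU 3 F q :=
    (QuotientGroup.mk' (Subgroup.center (Cfsg.SU 3 F q))).comp (sylThree hF h2).subtype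
  have hπ : Function.Injective π := by
    rw [injective_iff_map_eq_one]
    intro g hg
    obtain ⟨z, hz⟩ := (mem_center_SU_iff hF (by norm_num) g.1).1
      ((QuotientGroup.eq_one_iff _).1 hg)
    rw [(coe_eq g).1] at hz
    have h20 := congrArg (fun M : Matrix (Fin 3) (Fin 3) F => M 2 0) hz
    have h01 := congrArg (fun M : Matrix (Fin 3) (Fin 3) F => M 0 1) hz
    simp [mat3, Matrix.scalar_apply] at h20 h01
    exact ext' (h20.trans coord_one.1.symm) (h01.trans coord_one.2.symm)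
  have hcardπ : Nat.card π.range = q ^ 3 :=
    (Nat.card_congr (MonoidHom.ofInjective hπ).toEquiv).symm.trans card_sylThree
  have hPp : IsPGroup 2 π.range := IsPGroup.of_card (n := n * 3) (by rw [hcardπ, hqdef, pow_mul])
  obtain ⟨P, hP⟩ : ∃ P : Sylow 2 (Cfsg.PSU 3 F q), (P : Subgroup _) = π.range := by
    obtain ⟨R, hR⟩ := hPp.exists_le_sylow
    refine ⟨R, (Subgroup.eq_of_le_of_card_ge hR ?_).symm⟩
    rw [hcardπ]
    obtain ⟨R₀, hR₀⟩ := Facts.exists_sylow_eq h hQ₀
    rw [← hQcard, ← hR₀, Sylow.card_eq_multiplicity, Sylow.card_eq_multiplicity]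
  -- the torus
  obtain ⟨T, hT⟩ := exists_torHom hF h2 (by omega) hl
  obtain ⟨ω, hω⟩ := IsCyclic.exists_generator (α := Fˣ)
  have hωo : orderOf ω = q ^ 2 - 1 := by
    rw [orderOf_eq_card_of_forall_mem_zpowers hω, Nat.card_units, Nat.card_eq_fintype_card, hF]
  obtain ⟨x₀, hx₀def⟩ : ∃ x : F, x = (ω : F) := ⟨_, rfl⟩
  have hxo : orderOf x₀ = q ^ 2 - 1 := by rw [hx₀def, orderOf_units, hωo]
  have hx0 : x₀ ≠ 0 := hx₀def ▸ ω.ne_zero
  set k : Cfsg.PSU 3 F q := QuotientGroup.mk (T ω) with hkdef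
  have hconj : ∀ u : sylThree hF h2, ∃ u' : sylThree hF h2, k * π u * k⁻¹ = π u' ∧
      coordA u' = x₀ ^ (2 * q - 1) * coordA u ∧ coordB u' = x₀ ^ (q + 1) * coordB u := by
    intro u
    have hN : (x₀ ^ (2 * q - 1)) ^ (q + 1) = x₀ ^ (q + 1) := by
      have hX : (x₀ ^ (q + 1)) ^ q = x₀ ^ (q + 1) := pow_q_succ_fixed hF _
      rw [← pow_mul, mul_comm, pow_mul]
      refine mul_right_cancel₀ (pow_ne_zero (q + 1) hx0) ?_
      rw [← pow_succ, show 2 * q - 1 + 1 = q + q by omega, pow_add, hX]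
    obtain ⟨u', hA, hB⟩ := exists_mk (hF := hF) (h2 := h2) (a := x₀ ^ (2 * q - 1) * coordA u)
      (b := x₀ ^ (q + 1) * coordB u) (by
        rw [mul_pow, mul_pow, hN, pow_q_succ_fixed hF, ← mul_add, (coe_eq u).2])
    refine ⟨u', ?_, hA, hB⟩
    rw [mul_inv_eq_iff_eq_mul]
    show (QuotientGroup.mk (T ω * u.1) : Cfsg.PSU 3 F q) = QuotientGroup.mk (u'.1 * T ω)
    congr 1
    apply Subtype.ext
    apply Subtype.ext
    rw [Subgroup.coe_mul, Subgroup.coe_mul, Matrix.SpecialLinearGroup.coe_mul,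
      Matrix.SpecialLinearGroup.coe_mul, hT, ← hx₀def, (coe_eq u).1, (coe_eq u').1, hA, hB]
    refine torMat_mat3 h2 ?_ ?_ ?_
    · rw [inv_pow]
      field_simp
      rw [← mul_comm (x₀ ^ q), ← mul_assoc, ← pow_add, show q + (q - 1) = 2 * q - 1 by omega, mul_comm]
    · rw [mul_pow]
      have hq2 : (x₀ ^ q) ^ q = x₀ := pow_q_pow_q hF _
      refine mul_right_cancel₀ hx0 ?_
      have e1 : (x₀ ^ (2 * q - 1)) ^ q * x₀ ^ q = x₀ * x₀ := by
        rw [← mul_pow, ← pow_succ, show 2 * q - 1 + 1 = q + q by omega, pow_add, mul_pow, hq2]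
      have e2 : x₀ ^ (q - 1) * x₀ = x₀ ^ q := by rw [← pow_succ]; congr 1; omega
      linear_combination -(coordA u ^ q) * e1 - ((x₀ ^ (2 * q - 1)) ^ q * coordA u ^ q) * e2
    · rw [inv_pow, pow_succ]
      field_simp
  have hk : k ∈ normalizer (π.range : Set (Cfsg.PSU 3 F q)) := by
    have hmap : π.range.map (MulAut.conj k).toMonoidHom = π.range := by
      refine Subgroup.eq_of_le_of_card_ge ?_ (le_of_eq ?_)
      · rintro _ ⟨_, ⟨u, rfl⟩, rfl⟩
        obtain ⟨u', hu', -⟩ := hconj u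
        exact ⟨u', hu'.symm⟩
      · exact Nat.card_congr (π.range.equivMapOfInjective _ (MulAut.conj k).injective).toEquiv
    refine mem_normalizer_iff.2 fun y => ⟨fun hy => hmap ▸ ⟨y, hy, rfl⟩, fun hy => ?_⟩
    obtain ⟨z, hz, hze⟩ := hmap.ge hy
    have : z = y := (MulAut.conj k).injective hze
    exact this ▸ hz
  have hkdvd : orderOf k ∣ q ^ 2 - 1 := by
    refine (orderOf_map_dvd (QuotientGroup.mk' _) (T ω)).trans ((orderOf_map_dvd T ω).trans ?_)
    rw [hωo]
  have hodd2 : Odd (q ^ 2 - 1) :=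
    Nat.Even.sub_odd (Nat.one_le_pow _ _ (by omega))
      (by rw [hqdef, ← pow_mul, Nat.even_pow]; exact ⟨even_two, by omega⟩) odd_one
  have hkodd : Odd (orderOf k) := hodd2.of_dvd_nat hkdvd
  have hlow : q ^ 2 - 1 ∣ orderOf k * Nat.gcd 3 (q + 1) := by
    rw [← hxo, orderOf_dvd_iff_pow_eq_one, pow_mul]
    have h1 : (QuotientGroup.mk (T (ω ^ orderOf k)) : Cfsg.PSU 3 F q) = 1 := by
      rw [map_pow, QuotientGroup.mk_pow]
      exact pow_orderOf_eq_one k
    obtain ⟨z, hz⟩ := (mem_center_SU_iff hF (by norm_num) _).1 ((QuotientGroup.eq_one_iff _).1 h1)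
    rw [hT, Units.val_pow_eq_pow_val, ← hx₀def] at hz
    set c := x₀ ^ orderOf k with hcdef
    have hc0 : c ≠ 0 := pow_ne_zero _ hx0
    have h01 := congrArg (fun M : Matrix (Fin 3) (Fin 3) F => M 0 1) hz
    have h00 := congrArg (fun M : Matrix (Fin 3) (Fin 3) F => M 0 0) hz
    have h22 := congrArg (fun M : Matrix (Fin 3) (Fin 3) F => M 2 2) hz
    simp [torMat, Matrix.scalar_apply, hl0] at h01 h00 h22
    have hd : (c ^ q)⁻¹ = c := by linear_combination h01 - c * h2
    have hq1 : c ^ (q + 1) = 1 := by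
      rw [pow_succ]
      conv_lhs => arg 2; rw [← hd]
      exact mul_inv_cancel₀ (pow_ne_zero _ hc0)
    rw [hd] at h00
    have hz' : z = c := by linear_combination -h00 + c * l * h2
    rw [hz'] at h22
    have hq2 : c ^ (q - 2) = 1 := by
      refine mul_right_cancel₀ hc0 ?_
      rw [← pow_succ, show q - 2 + 1 = q - 1 by omega, h22, one_mul]
    have h3 : c ^ 3 = 1 := by
      have e : c ^ (q + 1) = c ^ (q - 2) * c ^ 3 := by rw [← pow_add]; congr 1; omega
      rw [hq1, hq2, one_mul] at e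
      exact e.symm
    exact pow_gcd_eq_one.2 ⟨h3, hq1⟩
  have hdec : ∀ c ∈ normalizer (π.range : Set (Cfsg.PSU 3 F q)), ∃ y ∈ π.range, ∃ i : ℕ, c = y * k ^ i := by
    refine dec_of_card hPp hk hkodd ?_
    obtain ⟨g, hg⟩ := Facts.exists_conj_kernel h hQ₀ P
    obtain ⟨hf, h'⟩ := setup_comap h (MulAut.conj g⁻¹)
    have e : Q₀.map (MulAut.conj g⁻¹).symm.toMonoidHom = π.range := SetLike.ext fun x => by
      rw [Subgroup.mem_map_equiv, MulEquiv.symm_symm, MulAut.conj_apply, inv_inv, ← hP]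
      exact (hg x).symm
    rw [e] at h'
    letI := MulAction.compHom Ω (MulAut.conj g⁻¹).toMonoidHom
    haveI := hf
    have hG := card_normalizer h'
    have hPSU := card_PSU (n := 3) hF (by norm_num)
    rw [hG, hcardπ] at hPSU
    simp only [Finset.prod_range_succ, Finset.prod_range_zero] at hPSU
    simp only [Nat.reduceAdd, Nat.reduceSub, Nat.reduceMul, Nat.reduceDiv, pow_one, one_mul,
      even_two, Even.zero, if_true, Nat.not_even_one, if_false] at hPSU
    rw [hcardπ]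
    have hpos : 0 < (q + 1) * (q ^ 3 + 1) := by positivity
    have h' : Nat.gcd 3 (q + 1) * Nat.card ↥(normalizer (π.range : Set (Cfsg.PSU 3 F q))) =
        q ^ 3 * (q ^ 2 - 1) := by
      apply Nat.eq_of_mul_eq_mul_left hpos
      calc (q + 1) * (q ^ 3 + 1) * (Nat.gcd 3 (q + 1) * Nat.card ↥(normalizer (π.range : Set (Cfsg.PSU 3 F q))))
          = Nat.gcd 3 (q + 1) * ((q + 1) *
              (Nat.card ↥(normalizer (π.range : Set (Cfsg.PSU 3 F q))) * (q ^ 3 + 1))) := by ring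
        _ = _ := by rw [hPSU]; ring
    refine (Nat.mul_le_mul_left_iff (Nat.gcd_pos_of_pos_left (q + 1) (by norm_num : 0 < 3))).1 ?_
    rw [h', mul_left_comm, mul_comm (Nat.gcd 3 (q + 1))]
    exact Nat.mul_le_mul_left _ (Nat.le_of_dvd (Nat.mul_pos (orderOf_pos k)
      (Nat.gcd_pos_of_pos_left _ (by norm_num))) hlow)
  -- the scalars
  have hν : (x₀ ^ (q + 1)) ^ (q - 1) = 1 := by
    rw [← pow_mul, show (q + 1) * (q - 1) = q ^ 2 - 1 by rw [← Nat.sq_sub_sq, one_pow], ← hxo,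
      pow_orderOf_eq_one]
  have hkey : (x₀ ^ (2 * q - 1)) ^ (q - 1) ≠ 1 := by
    intro e
    rw [← pow_mul, ← orderOf_dvd_iff_pow_eq_one, hxo,
      show q ^ 2 - 1 = (q + 1) * (q - 1) by rw [← Nat.sq_sub_sq, one_pow],
      Nat.mul_dvd_mul_iff_right (by omega)] at e
    have h7 : q + 1 ∣ 3 := by
      have := Nat.dvd_sub (dvd_mul_left (q + 1) 2) e
      rwa [show 2 * (q + 1) - (2 * q - 1) = 3 by omega] at this
    have := Nat.le_of_dvd (by norm_num) h7
    omega
  have hne : ∀ i : ℕ, (x₀ ^ (2 * q - 1)) ^ 2 ^ i * x₀ ^ (q + 1) ≠ 1 ∧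
      (x₀ ^ (2 * q - 1)) ^ 2 ^ i ≠ x₀ ^ (q + 1) := by
    intro i
    have key : ((x₀ ^ (2 * q - 1)) ^ (q - 1)) ^ 2 ^ i ≠ 1 := by
      intro e
      rw [← pow_mul, ← pow_mul, ← orderOf_dvd_iff_pow_eq_one, hxo,
        show q ^ 2 - 1 = (q + 1) * (q - 1) by rw [← Nat.sq_sub_sq, one_pow],
        show (2 * q - 1) * ((q - 1) * 2 ^ i) = (q - 1) * ((2 * q - 1) * 2 ^ i) by ring,
        mul_comm (q + 1), Nat.mul_dvd_mul_iff_left (by omega)] at e
      have h5 : Nat.Coprime (q + 1) (2 ^ i) :=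
        (Nat.coprime_two_right.2 (by
          rw [Nat.odd_add_one, Nat.not_odd_iff_even, hqdef, Nat.even_pow]
          exact ⟨even_two, by omega⟩)).pow_right i
      have h6 : q + 1 ∣ 2 * q - 1 := h5.dvd_of_dvd_mul_right e
      have h7 : q + 1 ∣ 3 := by
        have := Nat.dvd_sub (dvd_mul_left (q + 1) 2) h6
        rwa [show 2 * (q + 1) - (2 * q - 1) = 3 by omega] at this
      have := Nat.le_of_dvd (by norm_num) h7
      omega
    refine ⟨fun e => key ?_, fun e => key ?_⟩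
    · have e' : ((x₀ ^ (2 * q - 1)) ^ 2 ^ i * x₀ ^ (q + 1)) ^ (q - 1) = 1 := by rw [e, one_pow]
      rw [mul_pow, hν, mul_one, pow_right_comm] at e'
      exact e'
    · have e' : ((x₀ ^ (2 * q - 1)) ^ 2 ^ i) ^ (q - 1) = 1 := by rw [e, hν]
      rw [pow_right_comm] at e'
      exact e'
  have hform : ∀ i : ℕ, (x₀ ^ (2 * q - 1)) ^ 2 ^ i * x₀ ^ (2 * q - 1) ≠ 1 := by
    intro i e
    rw [← pow_succ, ← pow_mul, ← orderOf_dvd_iff_pow_eq_one, hxo] at e
    rcases Nat.lt_or_ge n 3 with hn3 | hn3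
    · have hn2 : n = 2 := by omega
      rw [hqdef, hn2] at e
      norm_num at e
      have h15 : 15 ∣ 2 ^ i + 1 := (show Nat.Coprime 15 7 by norm_num).dvd_of_dvd_mul_left e
      have key : ∀ j : ℕ, 2 ^ j % 15 = 1 ∨ 2 ^ j % 15 = 2 ∨ 2 ^ j % 15 = 4 ∨ 2 ^ j % 15 = 8 := by
        intro j
        induction j with
        | zero => simp
        | succ j ih => rw [pow_succ]; omega
      have := key i
      omega
    · refine not_dvd_two_pow_add_one hn3 i ?_
      have h4 : q - 1 ∣ (2 * q - 1) * (2 ^ i + 1) :=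
        (show q - 1 ∣ q ^ 2 - 1 by
          rw [show q ^ 2 - 1 = (q + 1) * (q - 1) by rw [← Nat.sq_sub_sq, one_pow]]
          exact dvd_mul_left _ _).trans e
      refine Nat.Coprime.dvd_of_dvd_mul_left (Nat.coprime_of_dvd' fun r hr h1 h3 => ?_) h4
      have := Nat.dvd_sub h3 (dvd_mul_of_dvd_right h1 2)
      rwa [show 2 * q - 1 - 2 * (q - 1) = 1 by omega] at this
  -- assemble
  have hinvπ : ∀ u : sylThree hF h2, Function.invFun π (π u) = u := Function.leftInverse_invFun hπ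
  have hkz : Centralizing π.range := by
    refine ⟨k ^ (q - 1), pow_mem hk _, hkodd.of_dvd_nat (orderOf_pow_dvd _), fun e => ?_, fun c hc => ?_,
      fun x hx hm => ?_⟩
    · have h1 := Nat.le_of_dvd (by omega) (orderOf_dvd_of_pow_eq_one e)
      have h2 := Nat.le_of_dvd (Nat.mul_pos (orderOf_pos k) (Nat.gcd_pos_of_pos_left _ (by norm_num))) hlow
      have h3 := Nat.le_of_dvd (by norm_num) (Nat.gcd_dvd_left 3 (q + 1))
      rw [show q ^ 2 - 1 = (q + 1) * (q - 1) by rw [← Nat.sq_sub_sq, one_pow]] at h2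
      have h4 : (q + 1) * (q - 1) ≤ 3 * (q - 1) := h2.trans (by nlinarith)
      have := Nat.le_of_mul_le_mul_right h4 (by omega)
      omega
    · obtain ⟨u, rfl⟩ := centre_le hc
      have hz0 := (Unitary.mem_center_iff u).1 ((mem_centre_range hπ).1 hc)
      have hpow : ∀ j : ℕ, ∃ v : sylThree hF h2, k ^ j * π u * (k ^ j)⁻¹ = π v ∧ coordA v = 0 ∧
          coordB v = (x₀ ^ (q + 1)) ^ j * coordB u := fun j => by
        induction j with
        | zero => exact ⟨u, by simp, hz0, by simp⟩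
        | succ j ih =>
          obtain ⟨v, hv, hA, hB⟩ := ih
          obtain ⟨v', hv', hA', hB'⟩ := hconj v
          refine ⟨v', ?_, by rw [hA', hA, mul_zero], by rw [hB', hB, pow_succ' (x₀ ^ (q + 1)), mul_assoc]⟩
          rw [← hv', ← hv, pow_succ' k]
          group
      obtain ⟨v, hv, hA, hB⟩ := hpow (q - 1)
      rw [hν, one_mul] at hB
      rw [ext' (hA.trans hz0.symm) hB, mul_inv_eq_iff_eq_mul] at hv
      exact hv
    · obtain ⟨u, rfl⟩ := hx
      have hpow : ∀ j : ℕ, ∃ v : sylThree hF h2, k ^ j * π u * (k ^ j)⁻¹ = π v ∧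
          coordA v = (x₀ ^ (2 * q - 1)) ^ j * coordA u := fun j => by
        induction j with
        | zero => exact ⟨u, by simp, by simp⟩
        | succ j ih =>
          obtain ⟨v, hv, hA⟩ := ih
          obtain ⟨v', hv', hA', -⟩ := hconj v
          refine ⟨v', ?_, by rw [hA', hA, pow_succ' (x₀ ^ (2 * q - 1)), mul_assoc]⟩
          rw [← hv', ← hv, pow_succ' k]
          group
      obtain ⟨v, hv, hA⟩ := hpow (q - 1)
      rw [hv, ← map_inv, ← map_mul, mem_centre_range hπ, Unitary.mem_center_iff] at hm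
      have h1 : coordA v = coordA u := by
        have h3 := (coord_mul u (u⁻¹ * v)).1
        rw [mul_inv_cancel_left, hm, add_zero] at h3
        exact h3
      rw [mem_centre_range hπ, Unitary.mem_center_iff]
      rw [h1] at hA
      by_contra hne'
      have h2' : (x₀ ^ (2 * q - 1)) ^ (q - 1) = 1 := mul_right_cancel₀ hne' (by rw [one_mul, ← hA])
      exact hkey h2'
  refine ⟨?_, fun R => ?_⟩
  swap
  · obtain ⟨g, hg⟩ := MulAction.exists_smul_eq (Cfsg.PSU 3 F q) P R
    have e : π.range.map (MulAut.conj g).toMonoidHom = (R : Subgroup (Cfsg.PSU 3 F q)) := by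
      rw [← hP, ← hg]
      rfl
    exact e ▸ hkz.map (MulAut.conj g)
  refine model_of_sylow h hinv hQ₀ ⟨n, hn, rfl⟩ P (hP ▸ ?_) (hP ▸ ?_)
  · refine basic_range hπ card_center
      (fun u => by rw [Unitary.sq_eq_one_iff, Unitary.mem_center_iff])
      (fun u => (Unitary.mem_center_iff _).2 (coord_sq u).1)
      (fun u v => (Unitary.mem_center_iff _).2 (Facts.coordA_comm u v))
      fun _ u hu z hz => Facts.comm_full hu hz
  · refine ⟨F, inferInstance, inferInstance, inferInstance, k,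
      fun x => coordA (Function.invFun π x), fun x => coordB (Function.invFun π x),
      x₀ ^ (2 * q - 1), x₀ ^ (q + 1), hk, hkodd, hdec, ?_, ?_, ?_, ?_, ?_, ?_,
      Or.inr ⟨hform, fun i => (hne i).2, Or.inl fun i => (hne i).1⟩⟩
    · rintro _ ⟨u, rfl⟩ _ ⟨v, rfl⟩
      simp only [← map_mul, hinvπ]
      exact (coord_mul u v).1
    · rintro _ ⟨u, rfl⟩
      rw [mem_centre_range hπ, Unitary.mem_center_iff, hinvπ]
    · rintro _ ⟨u, rfl⟩
      obtain ⟨u', he, hA, -⟩ := hconj u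
      simp only [he, hinvπ]
      exact hA
    · intro x hx y hy
      obtain ⟨u, rfl⟩ := centre_le hx
      obtain ⟨v, rfl⟩ := centre_le hy
      simp only [← map_mul, hinvπ]
      rw [(coord_mul u v).2, (Unitary.mem_center_iff u).1 ((mem_centre_range hπ).1 hx), zero_pow (by omega),
        zero_mul, add_zero]
    · intro x hx hx0
      obtain ⟨u, rfl⟩ := centre_le hx
      simp only [hinvπ] at hx0
      rw [show u = 1 from ext' (((Unitary.mem_center_iff u).1 ((mem_centre_range hπ).1 hx)).trans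
        coord_one.1.symm) (hx0.trans coord_one.2.symm), map_one]
    · intro x hx
      obtain ⟨u, rfl⟩ := centre_le hx
      obtain ⟨u', he, -, hB⟩ := hconj u
      simp only [he, hinvπ]
      exact hB

/-- The facts for `PSU₃(2ⁿ)`. -/
theorem rankFacts_psu {F : Type} [Field F] [Fintype F] {n : ℕ} (hn : 2 ≤ n)
    (hF : Fintype.card F = (2 ^ n) ^ 2) : RankFacts (Cfsg.PSU 3 F (2 ^ n)) (2 ^ n) :=
  haveI := (Facts.groupFacts_psu hn hF).simple
  rankFacts_of_equiv (model_psu hn hF).1 (MulEquiv.refl _)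

end Cfsg.Agent.Goldschmidt.General.Rank
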