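import Cfsg.Agent.Lib.Goldschmidt.General.Defs
import Cfsg.Agent.Lib.RankOne.SetupTwoRank

/-!
# Data of a kernel of a rank one set-up behind `RankFacts` (owner: helper72)

* `Basic P q` : centre, squares and commutators of `P`
* `Data P q` : a generator `k` of a complement of `P` in its normaliser, with coordinates on
  `P / Z(P)` and `Z(P)` in a field of characteristic two on which `k` acts by scalars
* `Basic.map`, `Data.map`, `setup_comap` : transport along isomorphisms
-/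

set_option autoImplicit false
set_option linter.unusedSectionVars false
set_option linter.style.haveILetI false

namespace Cfsg.Agent.Goldschmidt.General.Rank

open Cfsg Subgroup MulAction
open scoped commutatorElement

universe u v w

/-- Centre, squares and commutators. -/
structure Basic {L : Type u} [Group L] (P : Subgroup L) (q : ℕ) : Prop where
  card_centre : Nat.card ↥(centre P) = q
  omega : ∀ x ∈ P, (x * x = 1 ↔ x ∈ centre P)
  sq : ∀ x ∈ P, x * x ∈ centre P
  comm : ∀ x ∈ P, ∀ y ∈ P, ⁅x, y⁆ ∈ centre P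
  small : q = 4 → ∀ u ∈ P, u ∉ centre P → ∀ z ∈ centre P, ∃ r ∈ P, z = ⁅r, u⁆

/-- The element `k` acts by the scalars `l`, `n` in the coordinates `φ`, `ψ`. -/
structure DataWith {L : Type u} [Group L] (P : Subgroup L) (q : ℕ) {F : Type} [Field F]
    (k : L) (φ ψ : L → F) (l n : F) : Prop where
  mem : k ∈ normalizer (P : Set L)
  odd : Odd (orderOf k)
  dec : ∀ c ∈ normalizer (P : Set L), ∃ y ∈ P, ∃ i : ℕ, c = y * k ^ i
  φ_mul : ∀ x ∈ P, ∀ y ∈ P, φ (x * y) = φ x + φ y
  φ_ker : ∀ x ∈ P, (φ x = 0 ↔ x ∈ centre P)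
  φ_conj : ∀ x ∈ P, φ (k * x * k⁻¹) = l * φ x
  ψ_mul : ∀ x ∈ centre P, ∀ y ∈ centre P, ψ (x * y) = ψ x + ψ y
  ψ_inj : ∀ x ∈ centre P, ψ x = 0 → x = 1
  ψ_conj : ∀ x ∈ centre P, ψ (k * x * k⁻¹) = n * ψ x
  kind : P ≤ centralizer (P : Set L) ∨
    ((∀ i : ℕ, l ^ 2 ^ i * l ≠ 1) ∧ (∀ i : ℕ, l ^ 2 ^ i ≠ n) ∧
      ((∀ i : ℕ, l ^ 2 ^ i * n ≠ 1) ∨
        (q = 8 ∧ Nat.card ↥P = 64 ∧ TransMod P (centre P) k)))

/-- Some coordinates exist. -/
def Data {L : Type u} [Group L] (P : Subgroup L) (q : ℕ) : Prop :=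
  ∃ (F : Type) (_ : Field F) (_ : Finite F) (_ : CharP F 2) (k : L) (φ ψ : L → F) (l n : F),
    DataWith P q k φ ψ l n

variable {L : Type u} [Group L] {M : Type v} [Group M] {P : Subgroup L} {q : ℕ}

theorem mem_centre {x : L} : x ∈ centre P ↔ x ∈ P ∧ ∀ y ∈ P, y * x = x * y := by
  rw [mem_inf, mem_centralizer_iff]
  rfl

theorem mem_map_iff (e : L ≃* M) {y : M} : y ∈ P.map e.toMonoidHom ↔ e.symm y ∈ P :=
  Subgroup.mem_map_equiv

theorem mem_centre_map (e : L ≃* M) {y : M} : y ∈ centre (P.map e.toMonoidHom) ↔ e.symm y ∈ centre P := by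
  rw [mem_centre, mem_centre, mem_map_iff]
  refine and_congr_right fun _ => ⟨fun h x hx => ?_, fun h x hx => ?_⟩
  · have h1 := h (e x) (by rw [mem_map_iff, e.symm_apply_apply]; exact hx)
    rw [← e.symm_apply_apply x, ← map_mul, ← map_mul, h1]
  · rw [mem_map_iff] at hx
    apply e.symm.injective
    rw [map_mul, map_mul, h _ hx]

theorem mem_normalizer_map (e : L ≃* M) {y : M} :
    y ∈ normalizer ((P.map e.toMonoidHom : Subgroup M) : Set M) ↔ e.symm y ∈ normalizer (P : Set L) := by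
  rw [mem_normalizer_iff, mem_normalizer_iff]
  refine ⟨fun h x => ?_, fun h x => ?_⟩
  · have h1 := h (e x)
    rw [mem_map_iff, mem_map_iff, e.symm_apply_apply, map_mul, map_mul,
      map_inv, e.symm_apply_apply] at h1
    exact h1
  · rw [mem_map_iff, mem_map_iff, map_mul, map_mul, map_inv]
    exact h (e.symm x)

theorem Basic.map (h : Basic P q) (e : L ≃* M) : Basic (P.map e.toMonoidHom) q := by
  refine ⟨?_, fun x hx => ?_, fun x hx => ?_, fun x hx y hy => ?_, fun hq u hu hun z hz => ?_⟩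
  · rw [← h.card_centre]
    exact (Nat.card_congr (e.toEquiv.subtypeEquiv fun x => by
      rw [MulEquiv.toEquiv_eq_coe, EquivLike.coe_coe, mem_centre_map, e.symm_apply_apply])).symm
  · rw [mem_centre_map, ← h.omega _ ((mem_map_iff e).1 hx), ← map_mul, MulEquiv.map_eq_one_iff]
  · rw [mem_centre_map, map_mul]
    exact h.sq _ ((mem_map_iff e).1 hx)
  · rw [mem_centre_map, map_commutatorElement]
    exact h.comm _ ((mem_map_iff e).1 hx) _ ((mem_map_iff e).1 hy)
  · obtain ⟨r, hr, he⟩ := h.small hq (e.symm u) ((mem_map_iff e).1 hu)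
      (fun hc => hun ((mem_centre_map e).2 hc)) (e.symm z) ((mem_centre_map e).1 hz)
    refine ⟨e r, ⟨r, hr, rfl⟩, e.symm.injective ?_⟩
    rw [he, map_commutatorElement, e.symm_apply_apply]

theorem Data.map (h : Data P q) (e : L ≃* M) : Data (P.map e.toMonoidHom) q := by
  obtain ⟨F, _, _, _, k, φ, ψ, l, n, D⟩ := h
  refine ⟨F, ‹_›, ‹_›, ‹_›, e k, fun y => φ (e.symm y), fun y => ψ (e.symm y), l, n,
    (mem_normalizer_map e).2 (by rw [e.symm_apply_apply]; exact D.mem),
    by rw [MulEquiv.orderOf_eq]; exact D.odd, fun c hc => ?_, fun x hx y hy => ?_, fun x hx => ?_,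
    fun x hx => ?_, fun x hx y hy => ?_, fun x hx hx0 => ?_, fun x hx => ?_, ?_⟩
  · obtain ⟨y, hy, i, he⟩ := D.dec _ ((mem_normalizer_map e).1 hc)
    exact ⟨e y, ⟨y, hy, rfl⟩, i, by rw [← e.apply_symm_apply c, he, map_mul, map_pow]⟩
  · show φ (e.symm (x * y)) = _
    rw [map_mul]
    exact D.φ_mul _ ((mem_map_iff e).1 hx) _ ((mem_map_iff e).1 hy)
  · rw [mem_centre_map]
    exact D.φ_ker _ ((mem_map_iff e).1 hx)
  · show φ (e.symm (e k * x * (e k)⁻¹)) = _
    rw [map_mul, map_mul, map_inv, e.symm_apply_apply]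
    exact D.φ_conj _ ((mem_map_iff e).1 hx)
  · show ψ (e.symm (x * y)) = _
    rw [map_mul]
    exact D.ψ_mul _ ((mem_centre_map e).1 hx) _ ((mem_centre_map e).1 hy)
  · rw [← e.apply_symm_apply x, D.ψ_inj _ ((mem_centre_map e).1 hx) hx0, map_one]
  · show ψ (e.symm (e k * x * (e k)⁻¹)) = _
    rw [map_mul, map_mul, map_inv, e.symm_apply_apply]
    exact D.ψ_conj _ ((mem_centre_map e).1 hx)
  · rcases D.kind with hP | ⟨h1, h2, h3⟩
    · refine Or.inl fun y hy => mem_centralizer_iff.2 fun x hx => e.symm.injective ?_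
      rw [map_mul, map_mul]
      exact mem_centralizer_iff.1 (hP ((mem_map_iff e).1 hy)) _ ((mem_map_iff e).1 hx)
    · refine Or.inr ⟨h1, h2, h3.imp id fun ⟨h8, hc, ht⟩ =>
        ⟨h8, ?_, fun x hx y hy hxn hyn => ?_⟩⟩
      · rw [← hc]
        exact (Nat.card_congr (P.equivMapOfInjective e.toMonoidHom e.injective).toEquiv).symm
      · obtain ⟨j, hj⟩ := ht _ ((mem_map_iff e).1 hx) _ ((mem_map_iff e).1 hy)
          (fun hc => hxn ((mem_centre_map e).2 hc)) (fun hc => hyn ((mem_centre_map e).2 hc))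
        refine ⟨j, (mem_centre_map e).2 ?_⟩
        simpa using hj

/-- Transport of a rank one set-up along an isomorphism. -/
theorem setup_comap {Ω : Type w} [MulAction M Ω] [FaithfulSMul M Ω] {a : Ω} {t : M} {Q : Subgroup M}
    (h : Cfsg.IsRankOneSetup M Ω a t Q) (e : L ≃* M) :
    letI := MulAction.compHom Ω e.toMonoidHom
    FaithfulSMul L Ω ∧ Cfsg.IsRankOneSetup L Ω a (e.symm t) (Q.map e.symm.toMonoidHom) := by
  letI := MulAction.compHom Ω e.toMonoidHom
  have hs : ∀ (x : L) (p : Ω), x • p = e x • p := fun _ _ => rfl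
  have hst : ∀ (x : L) (p : Ω), x ∈ stabilizer L p ↔ e x ∈ stabilizer M p := fun x p => Iff.rfl
  have hta : e.symm t • a = t • a := by rw [hs, e.apply_symm_apply]
  have hmem : ∀ x : L, x ∈ Q.map e.symm.toMonoidHom ↔ e x ∈ Q := fun x => by
    rw [Subgroup.mem_map_equiv, MulEquiv.symm_symm]
  haveI hf : FaithfulSMul L Ω :=
    ⟨fun {x y} hxy => e.injective (FaithfulSMul.eq_of_smul_eq_smul fun p => hxy p)⟩
  refine ⟨hf, ?_, ?_, fun h1 => h.ne_one (by rw [← e.apply_symm_apply t, h1, map_one]), ?_,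
    fun x hx => (hst x a).2 (h.le ((hmem x).1 hx)), fun c hc x hx => ?_, ?_, ?_, ?_, ?_⟩
  · refine MulAction.is_two_pretransitive_iff.2 fun {b c b' c'} hbc hbc' => ?_
    obtain ⟨g, hg, hg'⟩ := MulAction.is_two_pretransitive_iff.1 h.two_transitive hbc hbc'
    exact ⟨e.symm g, by rw [hs, e.apply_symm_apply, hg], by rw [hs, e.apply_symm_apply, hg']⟩
  · rw [← map_mul, h.mul_self, map_one]
  · rw [hst, e.apply_symm_apply]
    exact h.not_mem
  · rw [hmem, map_mul, map_mul, map_inv]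
    exact h.conj_mem _ ((hst c a).1 hc) _ ((hmem x).1 hx)
  · refine (Subgroup.eq_bot_iff_forall _).2 fun x hx => e.injective ?_
    rw [map_one, ← Subgroup.mem_bot, ← h.inf_eq_bot, hta] at *
    exact ⟨(hmem x).1 hx.1, (hst x _).1 hx.2⟩
  · refine le_antisymm (sup_le (fun x hx => (hst x a).2 (h.le ((hmem x).1 hx))) inf_le_left) fun c hc => ?_
    obtain ⟨x, hx, d, hd, hxd⟩ := RankOne.Setup.exists_decomp h (g := e c) ((hst c a).1 hc)
    rw [← e.symm_apply_apply c, ← hxd, map_mul]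
    refine mul_mem_sup ⟨x, hx, rfl⟩ ⟨(hst _ a).2 ?_, ?_⟩
    · rw [e.apply_symm_apply]; exact hd.1
    · rw [hta]
      refine (hst _ _).2 ?_
      rw [e.apply_symm_apply]; exact hd.2
  · rw [← Nat.card_congr (Q.equivMapOfInjective e.symm.toMonoidHom e.symm.injective).toEquiv]
    exact h.even_card
  · rw [hta]
    convert h.odd_card using 1
    exact Nat.card_congr (e.toEquiv.subtypeEquiv fun x => Iff.rfl)

end Cfsg.Agent.Goldschmidt.General.Rank
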