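import Cfsg.Agent.Lib.Unitary.SylowThreeAut

/-!
# Equivariant pairings over a field of characteristic two (owner: helper72)

* `pow_two_pow_of_root` : a root of the minimal polynomial over `GF(2)` is `l ^ (2 ^ i)`
* `pairing_eq_one` : a biadditive pairing invariant under scalars `l`, `n` with no `l^(2^i) n = 1` is trivial
* `hom_eq_zero` : an additive map from `l`-modules to `n`-modules, `n` not conjugate to `l`, is zero
-/

set_option autoImplicit false
set_option linter.style.haveILetI false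

namespace Cfsg.Agent.Goldschmidt.General.Rank

open Polynomial

variable {F : Type*} [Field F] [Finite F] [CharP F 2]

/-- Roots of the minimal polynomial are conjugate by Frobenius. -/
theorem pow_two_pow_of_root {l r : F}
    (h : letI := ZMod.algebra F 2; aeval r (minpoly (ZMod 2) l) = 0) : ∃ i : ℕ, l ^ 2 ^ i = r := by
  classical
  letI := Fintype.ofFinite F
  letI := ZMod.algebra F 2
  haveI : Fact (Nat.Prime 2) := ⟨Nat.prime_two⟩
  obtain ⟨σ, hσ⟩ := minpoly.exists_algEquiv_of_root' (Algebra.IsAlgebraic.isAlgebraic l) h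
  obtain ⟨i, -, hi⟩ := Unitary.exists_frobenius_pow (σ.symm.symm : F →ₐ[ZMod 2] F)
  refine ⟨i, ?_⟩
  have h1 := hi l
  rw [ZMod.card] at h1
  rw [← h1]
  exact hσ

/-- Invariant pairings are trivial. -/
theorem pairing_eq_one {M : Type*} [CommGroup M] {V W : AddSubgroup F} {l n : F}
    (hV : ∀ u ∈ V, l * u ∈ V) (hW : ∀ w ∈ W, n * w ∈ W) (B : F → F → M)
    (hl : ∀ u ∈ V, ∀ u' ∈ V, ∀ w ∈ W, B (u + u') w = B u w * B u' w)
    (hr : ∀ u ∈ V, ∀ w ∈ W, ∀ w' ∈ W, B u (w + w') = B u w * B u w')
    (hB : ∀ u ∈ V, ∀ w ∈ W, B (l * u) (n * w) = B u w)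
    (hne : ∀ i : ℕ, l ^ 2 ^ i * n ≠ 1) : ∀ u ∈ V, ∀ w ∈ W, B u w = 1 := by
  classical
  letI := Fintype.ofFinite F
  letI := ZMod.algebra F 2
  have h0l : ∀ w ∈ W, B 0 w = 1 := fun w hw => by
    have h1 := hl 0 V.zero_mem 0 V.zero_mem w hw
    rw [add_zero] at h1
    exact left_eq_mul.1 h1
  have h0r : ∀ u ∈ V, B u 0 = 1 := fun u hu => by
    have h1 := hr u hu 0 W.zero_mem 0 W.zero_mem
    rw [add_zero] at h1
    exact left_eq_mul.1 h1
  intro u hu w hw
  by_cases hn : n = 0
  · rw [← hB u hu w hw, hn, zero_mul]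
    exact h0r _ (hV u hu)
  have hbij : ∀ c : F, c ≠ 0 → (∀ w ∈ W, c * w ∈ W) → ∀ w ∈ W, ∃ w' ∈ W, c * w' = w := fun c hc hcl => by
    intro w hw
    let g : W → W := fun x => ⟨c * x, hcl x x.2⟩
    have hg : Function.Injective g := fun x y e =>
      Subtype.ext (mul_left_cancel₀ hc (congrArg Subtype.val e))
    obtain ⟨⟨w', hw'⟩, he⟩ := (Finite.injective_iff_surjective.1 hg) ⟨w, hw⟩
    exact ⟨w', hw', congrArg Subtype.val he⟩
  have hW' : ∀ w ∈ W, n⁻¹ * w ∈ W := fun w hw => by
    obtain ⟨w', hw', rfl⟩ := hbij n hn hW w hw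
    rwa [inv_mul_cancel_left₀ hn]
  have key : ∀ P : (ZMod 2)[X], ∀ u ∈ V, ∀ w ∈ W,
      aeval l P * u ∈ V ∧ aeval n⁻¹ P * w ∈ W ∧ B (aeval l P * u) w = B u (aeval n⁻¹ P * w) := by
    intro P
    induction P using Polynomial.induction_on' with
    | add P P' ih ih' =>
      intro u hu w hw
      obtain ⟨a1, a2, a3⟩ := ih u hu w hw
      obtain ⟨b1, b2, b3⟩ := ih' u hu w hw
      simp only [map_add, add_mul]
      exact ⟨V.add_mem a1 b1, W.add_mem a2 b2, by rw [hl _ a1 _ b1 w hw, hr u hu _ a2 _ b2, a3, b3]⟩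
    | monomial j a =>
      rcases (show a = 0 ∨ a = 1 by revert a; decide) with rfl | rfl
      · intro u hu w hw
        simp only [map_zero, zero_mul]
        exact ⟨V.zero_mem, W.zero_mem, by rw [h0l w hw, h0r u hu]⟩
      · simp only [aeval_monomial, map_one, one_mul]
        induction j with
        | zero =>
          intro u hu w hw
          simp only [pow_zero, one_mul]
          exact ⟨hu, hw, trivial⟩
        | succ j ih =>
          intro u hu w hw
          obtain ⟨a1, -, a3⟩ := ih u hu (n⁻¹ * w) (hW' w hw)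
          obtain ⟨-, a2, -⟩ := ih u hu (n⁻¹ * w) (hW' w hw)
          refine ⟨?_, ?_, ?_⟩
          · rw [pow_succ', mul_assoc]
            exact hV _ a1
          · rw [pow_succ, mul_assoc]
            exact a2
          · rw [pow_succ', mul_assoc, pow_succ, mul_assoc, ← a3]
            conv_lhs => rw [show w = n * (n⁻¹ * w) by rw [mul_inv_cancel_left₀ hn]]
            exact hB _ a1 _ (hW' w hw)
  have hc : aeval n⁻¹ (minpoly (ZMod 2) l) ≠ 0 := fun h => by
    obtain ⟨i, hi⟩ := pow_two_pow_of_root h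
    exact hne i (by rw [hi, inv_mul_cancel₀ hn])
  obtain ⟨w', hw', rfl⟩ := hbij _ hc (fun w hw => (key _ 0 V.zero_mem w hw).2.1) w hw
  rw [← (key _ u hu w' hw').2.2, minpoly.aeval, zero_mul]
  exact h0l w' hw'

/-- Equivariant maps between non-conjugate scalars vanish. -/
theorem hom_eq_zero {V : AddSubgroup F} {l n : F} (hV : ∀ u ∈ V, l * u ∈ V) (D : F → F)
    (hD : ∀ u ∈ V, ∀ u' ∈ V, D (u + u') = D u + D u') (he : ∀ u ∈ V, D (l * u) = n * D u)
    (hne : ∀ i : ℕ, l ^ 2 ^ i ≠ n) : ∀ u ∈ V, D u = 0 := by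
  classical
  letI := Fintype.ofFinite F
  letI := ZMod.algebra F 2
  have h0 : D 0 = 0 := by
    have h1 := hD 0 V.zero_mem 0 V.zero_mem
    rw [add_zero] at h1
    exact left_eq_add.1 h1
  have key : ∀ P : (ZMod 2)[X], ∀ u ∈ V, aeval l P * u ∈ V ∧ D (aeval l P * u) = aeval n P * D u := by
    intro P
    induction P using Polynomial.induction_on' with
    | add P P' ih ih' =>
      intro u hu
      obtain ⟨a1, a2⟩ := ih u hu
      obtain ⟨b1, b2⟩ := ih' u hu
      simp only [map_add, add_mul]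
      exact ⟨V.add_mem a1 b1, by rw [hD _ a1 _ b1, a2, b2]⟩
    | monomial j a =>
      rcases (show a = 0 ∨ a = 1 by revert a; decide) with rfl | rfl
      · intro u hu
        simp only [map_zero, zero_mul]
        exact ⟨V.zero_mem, h0⟩
      · simp only [aeval_monomial, map_one, one_mul]
        induction j with
        | zero =>
          intro u hu
          simp only [pow_zero, one_mul]
          exact ⟨hu, trivial⟩
        | succ j ih =>
          intro u hu
          obtain ⟨a1, a2⟩ := ih u hu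
          refine ⟨?_, ?_⟩
          · rw [pow_succ', mul_assoc]
            exact hV _ a1
          · rw [pow_succ', mul_assoc, he _ a1, a2, pow_succ', mul_assoc]
  intro u hu
  have h1 := (key (minpoly (ZMod 2) l) u hu).2
  rw [minpoly.aeval, zero_mul, h0] at h1
  refine (mul_eq_zero.1 h1.symm).resolve_left fun h => ?_
  obtain ⟨i, hi⟩ := pow_two_pow_of_root h
  exact hne i hi

end Cfsg.Agent.Goldschmidt.General.Rank
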