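import Cfsg.Agent.Lib.Goldschmidt.General.RankFacts.Data
import Cfsg.Agent.Lib.Goldschmidt.General.RankFacts.Pairing
import Cfsg.Agent.Lib.Goldschmidt.Facts.Group

/-!
# `RankFacts` from a rank one set-up with coordinates (owner: helper72)

* `exists_torus`, `autInner` : the fields for the kernel of the set-up
* `rankFacts_of_setup` : all the facts
-/

set_option autoImplicit false
set_option linter.unusedSectionVars false
set_option linter.style.haveILetI false

namespace Cfsg.Agent.Goldschmidt.General.Rank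

open Cfsg Subgroup MulAction Cfsg.Agent.RankOne
open scoped commutatorElement Pointwise

universe u w

variable {L : Type u} {Ω : Type w} [Group L] [Finite L] [MulAction L Ω] [FaithfulSMul L Ω] {a : Ω}
  {t : L} {Q : Subgroup L} {q : ℕ}
  {F : Type} [Field F] [Finite F] [CharP F 2] {k : L} {φ ψ : L → F} {l n : F}

variable (h : Cfsg.IsRankOneSetup L Ω a t Q)
  (h2 : ∃ x y : L, x ≠ 1 ∧ y ≠ 1 ∧ x ≠ y ∧ x * x = 1 ∧ y * y = 1 ∧ x * y = y * x)
  (B : Basic Q q) (D : DataWith Q q k φ ψ l n)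

omit [Finite L] in
theorem centre_le : centre Q ≤ Q := inf_le_left

omit [Finite L] in
theorem centre_comm {z x : L} (hz : z ∈ centre Q) (hx : x ∈ Q) : z * x = x * z :=
  ((mem_centre.1 hz).2 x hx).symm

omit [Finite L] in
theorem conj_centre {g z : L} (hg : g ∈ normalizer (Q : Set L)) (hz : z ∈ centre Q) :
    g * z * g⁻¹ ∈ centre Q := by
  obtain ⟨hzQ, hzc⟩ := mem_centre.1 hz
  refine mem_centre.2 ⟨(mem_normalizer_iff.1 hg z).1 hzQ, fun y hy => ?_⟩
  have hy' : g⁻¹ * y * g ∈ Q := by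
    have := (mem_normalizer_iff.1 (inv_mem hg) y).1 hy
    rwa [inv_inv] at this
  have h1 := hzc _ hy'
  calc y * (g * z * g⁻¹) = g * ((g⁻¹ * y * g) * z) * g⁻¹ := by group
    _ = g * (z * (g⁻¹ * y * g)) * g⁻¹ := by rw [h1]
    _ = g * z * g⁻¹ * y := by group

include h in
omit [Finite L] in
theorem stab_le_normalizer : stabilizer L a ≤ normalizer (Q : Set L) := fun g hg =>
  mem_normalizer_iff.2 fun y => ⟨h.conj_mem g hg y, fun hy => by
    have := Setup.conj_mem_inv h hg hy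
    rwa [show g⁻¹ * (g * y * g⁻¹) * g = y by group] at this⟩

include h in
theorem normalizer_le_stab : normalizer (Q : Set L) ≤ stabilizer L a := fun _ hg =>
  Facts.fix_of_normalizes h hg

include h B in
theorem centralizer_le {z : L} (hz : z ∈ centre Q) (hz1 : z ≠ 1) :
    centralizer ({z} : Set L) ≤ normalizer (Q : Set L) := fun c hc => by
  refine stab_le_normalizer h ?_
  have hzz := (B.omega z (centre_le hz)).2 hz
  have hza : z • a = a := h.le (centre_le hz)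
  refine Setup.fixed_unique h hz1 hzz ?_ hza
  rw [← mul_smul, ← mem_centralizer_singleton_iff.1 hc, mul_smul, hza]

include h h2 B in
theorem exists_centre_ne : ∃ z ∈ centre Q, z ≠ 1 := by
  obtain ⟨s, hs⟩ := Setup.exists_ii h
  exact ⟨s, (B.omega s (Setup.mem_Q_of_ii h hs)).1 hs.2.2, hs.2.1⟩

include h h2 B in
theorem normalizer_centre_le {c : L} (hc : c ∈ normalizer (centre Q : Set L)) :
    c ∈ normalizer (Q : Set L) := by
  refine stab_le_normalizer h ?_
  obtain ⟨z, hz, hz1⟩ := exists_centre_ne h h2 B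
  have hzz := (B.omega z (centre_le hz)).2 hz
  have hcz : c⁻¹ * z * c ∈ centre Q := by
    have := (mem_normalizer_iff.1 (inv_mem hc) z).1 hz
    rwa [inv_inv] at this
  have h1 : (c⁻¹ * z * c) • a = a := h.le (centre_le hcz)
  rw [mul_smul, mul_smul, inv_smul_eq_iff] at h1
  exact Setup.fixed_unique h hz1 hzz h1 (h.le (centre_le hz))

include D in
omit [Finite L] [Finite F] [CharP F 2] in
theorem pow_conj_act {c : L} (hc : c ∈ normalizer (Q : Set L)) :
    ∃ i : ℕ, ∀ z ∈ centre Q, c * z * c⁻¹ = k ^ i * z * (k ^ i)⁻¹ := by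
  obtain ⟨y, hy, i, rfl⟩ := D.dec c hc
  refine ⟨i, fun z hz => ?_⟩
  have h1 := centre_comm (conj_centre (pow_mem D.mem i) hz) hy
  calc y * k ^ i * z * (y * k ^ i)⁻¹ = y * (k ^ i * z * (k ^ i)⁻¹) * y⁻¹ := by group
    _ = (k ^ i * z * (k ^ i)⁻¹) * y * y⁻¹ := by rw [h1]
    _ = k ^ i * z * (k ^ i)⁻¹ := by group

include D in
omit [Finite F] [CharP F 2] in
theorem solvable_normalizer (hQ : IsPGroup 2 ↥Q) : Group.IsSolvable ↥(normalizer (Q : Set L)) := by
  haveI : Fact (Nat.Prime 2) := ⟨Nat.prime_two⟩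
  set N := normalizer (Q : Set L) with hN
  haveI hn : (Q.subgroupOf N).Normal := Subgroup.normal_in_normalizer
  haveI : Group.IsNilpotent ↥(Q.subgroupOf N) :=
    (hQ.of_equiv (Subgroup.subgroupOfEquivOfLe (le_normalizer (H := Q))).symm).isNilpotent
  have hcomm : IsMulCommutative (↥N ⧸ Q.subgroupOf N) := by
    have hgen : ∀ x : ↥N ⧸ Q.subgroupOf N, x ∈ zpowers (QuotientGroup.mk (⟨k, D.mem⟩ : ↥N)) := fun x => by
      induction x using QuotientGroup.induction_on with | _ c => ?_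
      obtain ⟨y, hy, i, he⟩ := D.dec c.1 c.2
      refine ⟨(i : ℤ), ?_⟩
      simp only [zpow_natCast, ← QuotientGroup.mk_pow]
      refine QuotientGroup.eq.2 (mem_subgroupOf.2 ?_)
      show (k ^ i)⁻¹ * (c : L) ∈ Q
      rw [he]
      have hki : (k ^ i)⁻¹ ∈ N := inv_mem (pow_mem D.mem i)
      have := (mem_normalizer_iff.1 hki y).1 hy
      rwa [inv_inv, mul_assoc] at this
    refine ⟨⟨fun x y => ?_⟩⟩
    obtain ⟨i, rfl⟩ := hgen x
    obtain ⟨j, rfl⟩ := hgen y
    exact zpow_mul_comm _ i j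
  haveI : Group.IsSolvable (↥N ⧸ Q.subgroupOf N) :=
    Group.isSolvable_of_comm fun a b => hcomm.is_comm.comm a b
  exact Group.isSolvable_of_ker_le_range (Q.subgroupOf N).subtype (QuotientGroup.mk' (Q.subgroupOf N))
    (by rw [QuotientGroup.ker_mk', Subgroup.range_subtype])

/-- The coordinates of `Q`. -/
def coordGroup (D : DataWith Q q k φ ψ l n) : AddSubgroup F where
  carrier := φ '' (Q : Set L)
  zero_mem' := ⟨1, one_mem Q, (D.φ_ker 1 (one_mem Q)).2 (one_mem _)⟩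
  add_mem' := by
    rintro _ _ ⟨x, hx, rfl⟩ ⟨y, hy, rfl⟩
    exact ⟨x * y, mul_mem hx hy, D.φ_mul x hx y hy⟩
  neg_mem' := by
    rintro _ ⟨x, hx, rfl⟩
    refine ⟨x⁻¹, inv_mem hx, ?_⟩
    have h1 := D.φ_mul x hx x⁻¹ (inv_mem hx)
    rw [mul_inv_cancel, (D.φ_ker 1 (one_mem Q)).2 (one_mem _)] at h1
    exact (neg_eq_of_add_eq_zero_right h1.symm).symm

/-- The coordinates of the centre. -/
def coordCentre (D : DataWith Q q k φ ψ l n) : AddSubgroup F where
  carrier := ψ '' (centre Q : Set L)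
  zero_mem' := ⟨1, one_mem _, by
    have h1 := D.ψ_mul 1 (one_mem _) 1 (one_mem _)
    rw [one_mul] at h1
    exact left_eq_add.1 h1⟩
  add_mem' := by
    rintro _ _ ⟨x, hx, rfl⟩ ⟨y, hy, rfl⟩
    exact ⟨x * y, mul_mem hx hy, D.ψ_mul x hx y hy⟩
  neg_mem' := by
    rintro _ ⟨x, hx, rfl⟩
    exact ⟨x, hx, (CharTwo.neg_eq (ψ x)).symm⟩

include D in
theorem ψ_eq {x y : L} (hx : x ∈ centre Q) (hy : y ∈ centre Q) (e : ψ x = ψ y) : x = y := by
  have h1 := D.ψ_mul (x * y⁻¹) (mul_mem hx (inv_mem hy)) y hy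
  rw [inv_mul_cancel_right, e] at h1
  exact mul_inv_eq_one.1 (D.ψ_inj _ (mul_mem hx (inv_mem hy)) (right_eq_add.1 h1))

include D in
theorem φ_eq {x y : L} (hx : x ∈ Q) (hy : y ∈ Q) (e : φ x = φ y) : x⁻¹ * y ∈ centre Q := by
  refine (D.φ_ker _ (mul_mem (inv_mem hx) hy)).1 ?_
  have h1 := D.φ_mul x hx (x⁻¹ * y) (mul_mem (inv_mem hx) hy)
  rw [mul_inv_cancel_left, e] at h1
  exact left_eq_add.1 h1

include D in
theorem noForm (hcond : ∀ i : ℕ, l ^ 2 ^ i * l ≠ 1) : NoForm Q (centre Q) k := by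
  classical
  intro M _ _ β hl hr halt hz hinv x hx y hy
  have hz' : ∀ z ∈ centre Q, ∀ w ∈ Q, β w z = 1 := fun z hzc w hw => by
    have h1 := halt (w * z) (mul_mem hw (centre_le hzc))
    rw [hl w hw z (centre_le hzc) _ (mul_mem hw (centre_le hzc)), hr w hw z (centre_le hzc) w hw,
      hr w hw z (centre_le hzc) z (centre_le hzc), halt w hw, halt z (centre_le hzc), hz z hzc w hw,
      one_mul, mul_one, mul_one] at h1
    exact h1
  have hwell : ∀ x ∈ Q, ∀ x' ∈ Q, φ x = φ x' → ∀ w ∈ Q, β x' w = β x w ∧ β w x' = β w x := by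
    intro x hx x' hx' e w hw
    have hzc := φ_eq D hx hx' e
    refine ⟨?_, ?_⟩
    · conv_lhs => rw [← mul_inv_cancel_left x x', hl x hx _ (centre_le hzc) w hw, hz _ hzc w hw, mul_one]
    · conv_lhs => rw [← mul_inv_cancel_left x x', hr x hx _ (centre_le hzc) w hw, hz' _ hzc w hw, mul_one]
  choose! g hg hge using fun (u : F) (hu : u ∈ coordGroup D) => (hu : ∃ x ∈ (Q : Set L), φ x = u)
  have hV : ∀ u ∈ coordGroup D, l * u ∈ coordGroup D := by
    rintro _ ⟨x, hx, rfl⟩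
    exact ⟨k * x * k⁻¹, (mem_normalizer_iff.1 D.mem x).1 hx, D.φ_conj x hx⟩
  have hmem : ∀ x ∈ Q, φ x ∈ coordGroup D := fun x hx => ⟨x, hx, rfl⟩
  have key := pairing_eq_one hV hV (fun u w => β (g u) (g w))
    (fun u hu u' hu' w hw => by
      show β (g (u + u')) (g w) = β (g u) (g w) * β (g u') (g w)
      rw [← hl _ (hg u hu) _ (hg u' hu') _ (hg w hw)]
      refine (hwell _ (mul_mem (hg u hu) (hg u' hu')) _ (hg _ ((coordGroup D).add_mem hu hu')) ?_ _
        (hg w hw)).1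
      rw [D.φ_mul _ (hg u hu) _ (hg u' hu'), hge u hu, hge u' hu', hge _ ((coordGroup D).add_mem hu hu')])
    (fun u hu w hw w' hw' => by
      show β (g u) (g (w + w')) = β (g u) (g w) * β (g u) (g w')
      rw [← hr _ (hg w hw) _ (hg w' hw') _ (hg u hu)]
      refine (hwell _ (mul_mem (hg w hw) (hg w' hw')) _ (hg _ ((coordGroup D).add_mem hw hw')) ?_ _
        (hg u hu)).2
      rw [D.φ_mul _ (hg w hw) _ (hg w' hw'), hge w hw, hge w' hw', hge _ ((coordGroup D).add_mem hw hw')])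
    (fun u hu w hw => by
      show β (g (l * u)) (g (l * w)) = β (g u) (g w)
      rw [← hinv _ (hg u hu) _ (hg w hw)]
      have hku := (mem_normalizer_iff.1 D.mem _).1 (hg u hu)
      have hkw := (mem_normalizer_iff.1 D.mem _).1 (hg w hw)
      rw [(hwell _ hku _ (hg _ (hV u hu))
          (by rw [D.φ_conj _ (hg u hu), hge u hu, hge _ (hV u hu)]) _ (hg _ (hV w hw))).1,
        (hwell _ hkw _ (hg _ (hV w hw))
          (by rw [D.φ_conj _ (hg w hw), hge w hw, hge _ (hV w hw)]) _ hku).2])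
    hcond _ (hmem x hx) _ (hmem y hy)
  rw [← (hwell _ hx _ (hg _ (hmem x hx)) (hge _ (hmem x hx)).symm _ hy).1,
    ← (hwell _ hy _ (hg _ (hmem y hy)) (hge _ (hmem y hy)).symm _ (hg _ (hmem x hx))).2]
  exact key

include D in
theorem noDelta (hcond : ∀ i : ℕ, l ^ 2 ^ i * n ≠ 1) : NoDelta Q (centre Q) k := by
  classical
  intro M _ _ β hl hr hz hinv x hx z hzc
  choose! g hg hge using fun (u : F) (hu : u ∈ coordGroup D) => (hu : ∃ x ∈ (Q : Set L), φ x = u)
  choose! g' hg' hge' using fun (u : F) (hu : u ∈ coordCentre D) =>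
    (hu : ∃ x ∈ (centre Q : Set L), ψ x = u)
  have hwell : ∀ x ∈ Q, ∀ x' ∈ Q, φ x = φ x' → ∀ z ∈ centre Q, β x' z = β x z := by
    intro x hx x' hx' e z hz0
    have hzc := φ_eq D hx hx' e
    conv_lhs => rw [← mul_inv_cancel_left x x', hl x hx _ (centre_le hzc) z hz0, hz _ hzc z hz0, mul_one]
  have hV : ∀ u ∈ coordGroup D, l * u ∈ coordGroup D := by
    rintro _ ⟨x, hx, rfl⟩
    exact ⟨k * x * k⁻¹, (mem_normalizer_iff.1 D.mem x).1 hx, D.φ_conj x hx⟩
  have hW : ∀ u ∈ coordCentre D, n * u ∈ coordCentre D := by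
    rintro _ ⟨x, hx, rfl⟩
    exact ⟨k * x * k⁻¹, conj_centre D.mem hx, D.ψ_conj x hx⟩
  have hmem : φ x ∈ coordGroup D := ⟨x, hx, rfl⟩
  have hmem' : ψ z ∈ coordCentre D := ⟨z, hzc, rfl⟩
  have key := pairing_eq_one hV hW (fun u w => β (g u) (g' w))
    (fun u hu u' hu' w hw => by
      show β (g (u + u')) (g' w) = β (g u) (g' w) * β (g u') (g' w)
      rw [← hl _ (hg u hu) _ (hg u' hu') _ (hg' w hw)]
      refine hwell _ (mul_mem (hg u hu) (hg u' hu')) _ (hg _ ((coordGroup D).add_mem hu hu')) ?_ _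
        (hg' w hw)
      rw [D.φ_mul _ (hg u hu) _ (hg u' hu'), hge u hu, hge u' hu', hge _ ((coordGroup D).add_mem hu hu')])
    (fun u hu w hw w' hw' => by
      show β (g u) (g' (w + w')) = β (g u) (g' w) * β (g u) (g' w')
      rw [← hr _ (hg u hu) _ (hg' w hw) _ (hg' w' hw')]
      congr 1
      refine ψ_eq D (hg' _ ((coordCentre D).add_mem hw hw')) (mul_mem (hg' w hw) (hg' w' hw')) ?_
      rw [D.ψ_mul _ (hg' w hw) _ (hg' w' hw'), hge' w hw, hge' w' hw',
        hge' _ ((coordCentre D).add_mem hw hw')])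
    (fun u hu w hw => by
      show β (g (l * u)) (g' (n * w)) = β (g u) (g' w)
      rw [← hinv _ (hg u hu) _ (hg' w hw)]
      have hku := (mem_normalizer_iff.1 D.mem _).1 (hg u hu)
      rw [hwell _ hku _ (hg _ (hV u hu))
        (by rw [D.φ_conj _ (hg u hu), hge u hu, hge _ (hV u hu)]) _ (hg' _ (hW w hw))]
      congr 1
      refine ψ_eq D (hg' _ (hW w hw)) (conj_centre D.mem (hg' w hw)) ?_
      rw [D.ψ_conj _ (hg' w hw), hge' w hw, hge' _ (hW w hw)])
    hcond _ hmem _ hmem'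
  rw [← hwell _ hx _ (hg _ hmem) (hge _ hmem).symm _ hzc]
  rwa [ψ_eq D (hg' _ hmem') hzc (hge' _ hmem')] at key

include h h2 B D in
theorem exists_torus : k ∈ normalizer (Q : Set L) ∧ Torus (centre Q) k ∧ NoForm Q (centre Q) k ∧
    (NoDelta Q (centre Q) k ∨ (q = 8 ∧ Nat.card ↥Q = 64 ∧ TransMod Q (centre Q) k)) := by
  refine ⟨D.mem, ⟨?_, D.odd, fun x hx y hy hx1 hy1 => ?_, fun c hc _ => ?_⟩, ?_, ?_⟩
  · refine mem_normalizer_iff.2 fun z => ⟨conj_centre D.mem, fun hz => ?_⟩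
    have := conj_centre (inv_mem D.mem) hz
    rwa [show k⁻¹ * (k * z * k⁻¹) * k⁻¹⁻¹ = z by group] at this
  · have hII : ∀ x ∈ centre Q, x ≠ 1 → x ∈ Cfsg.involutionsIn (stabilizer L a : Set L) :=
      fun x hx hx1 => ⟨h.le (centre_le hx), hx1, (B.omega x (centre_le hx)).2 hx⟩
    obtain ⟨c, hc, hce⟩ := Setup.exists_conj_kk h (hII y hy hy1) (hII x hx hx1)
    obtain ⟨i, hi⟩ := pow_conj_act D (c := c) (stab_le_normalizer h hc.1.1)
    refine ⟨i, ?_⟩
    rw [← hi x hx, ← hce]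
    group
  · exact pow_conj_act D (normalizer_centre_le h h2 B hc)
  · rcases D.kind with hP | ⟨h1, -, -⟩
    · intro M _ _ β _ _ _ hz _ x hx y hy
      exact hz x ⟨hx, hP hx⟩ y hy
    · exact noForm D h1
  · rcases D.kind with hP | ⟨-, -, h3 | h8⟩
    · left
      intro M _ _ β _ _ hz _ x hx z hzc
      exact hz x ⟨hx, hP hx⟩ z hzc
    · exact Or.inl (noDelta D h3)
    · exact Or.inr h8

omit [Finite L] [MulAction L Ω] [FaithfulSMul L Ω] [Finite F] [CharP F 2] in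
theorem conj_mem_of_fixes {α : MulAut L} {g : L}
    (hg : g ∈ normalizer (Q : Set L)) (hfix : ∀ x ∈ Q, x⁻¹ * α x ∈ centre Q)
    (hz : ∀ z ∈ centre Q, α z = z) :
    (∀ x ∈ Q, ∃ z ∈ centre Q, α g * x * (α g)⁻¹ = g * x * g⁻¹ * z) ∧
      ∀ z ∈ centre Q, α g * z * (α g)⁻¹ = g * z * g⁻¹ := by
  have hgz : ∀ z ∈ centre Q, α g * z * (α g)⁻¹ = g * z * g⁻¹ := fun z hzc => by
    conv_lhs => rw [← hz z hzc, ← map_inv, ← map_mul, ← map_mul, hz _ (conj_centre hg hzc)]
  refine ⟨fun x hx => ?_, hgz⟩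
  have hgx : g * x * g⁻¹ ∈ Q := (mem_normalizer_iff.1 hg x).1 hx
  refine ⟨((g * x * g⁻¹)⁻¹ * α (g * x * g⁻¹)) * (g * (x⁻¹ * α x)⁻¹ * g⁻¹),
    mul_mem (hfix _ hgx) (conj_centre hg (inv_mem (hfix x hx))), ?_⟩
  have e1 : α g * x * (α g)⁻¹ = α (g * x * g⁻¹) * (α g * (x⁻¹ * α x)⁻¹ * (α g)⁻¹) := by
    rw [map_mul, map_mul, map_inv]; group
  rw [e1, hgz _ (inv_mem (hfix x hx))]
  group

include h h2 B in
/-- An element of odd order fixing two points, trivial on `Z` and on `Q / Z`, is trivial. -/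
theorem eq_one_of_trivial {c : L} (hc : c ∈ stabilizer L a ⊓ stabilizer L (t • a))
    (hz : ∀ z ∈ centre Q, c * z * c⁻¹ = z) (hx : ∀ x ∈ Q, x⁻¹ * (c * x * c⁻¹) ∈ centre Q) : c = 1 := by
  obtain ⟨j, hj⟩ : Odd (orderOf c) := h.odd_card.of_dvd_nat (Subgroup.orderOf_dvd_natCard _ hc)
  have hcomm : ∀ x ∈ Q, c * x * c⁻¹ = x := fun x hxQ => by
    obtain ⟨z, hzd⟩ : ∃ z, z = x⁻¹ * (c * x * c⁻¹) := ⟨_, rfl⟩
    have hzc : z ∈ centre Q := hzd ▸ hx x hxQ
    have hzz : z * z = 1 := (B.omega z (centre_le hzc)).2 hzc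
    have hpow : ∀ m : ℕ, c ^ m * x * (c ^ m)⁻¹ = x * z ^ m := fun m => by
      induction m with
      | zero => simp
      | succ m ih =>
        have e1 : c ^ (m + 1) * x * (c ^ (m + 1))⁻¹ = c * (c ^ m * x * (c ^ m)⁻¹) * c⁻¹ := by
          rw [pow_succ']; group
        rw [e1, ih, show c * (x * z ^ m) * c⁻¹ = (c * x * c⁻¹) * (c * z ^ m * c⁻¹) by group,
          hz _ (pow_mem hzc m), show c * x * c⁻¹ = x * z by rw [hzd, mul_inv_cancel_left], mul_assoc,
          ← pow_succ']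
    have h1 := hpow (orderOf c)
    rw [pow_orderOf_eq_one, one_mul, inv_one, mul_one, hj, pow_succ, pow_mul, pow_two, hzz, one_pow,
      one_mul] at h1
    have : z = 1 := mul_eq_left.1 h1.symm
    rw [hzd, inv_mul_eq_one] at this
    exact this.symm
  refine FaithfulSMul.eq_of_smul_eq_smul (α := Ω) fun p => ?_
  rw [one_smul]
  by_cases hp : p = a
  · rw [hp]; exact hc.1
  · obtain ⟨⟨x, hxQ⟩, hxe, -⟩ := Setup.regular h (Setup.t_smul_ne h) hp
    have hxc : c * x = x * c := mul_inv_eq_iff_eq_mul.1 (hcomm x hxQ)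
    simp only at hxe
    rw [← hxe, ← mul_smul, hxc, mul_smul, (hc.2 : c • (t • a) = t • a)]

include h h2 B D in
/-- An automorphism trivial on the centre and modulo it is inner by an element of `Q`. -/
theorem autInner {α : MulAut L} (hz : ∀ z ∈ centre Q, α z = z)
    (hx : ∀ x ∈ Q, x⁻¹ * α x ∈ centre Q) : ∃ s ∈ Q, α = MulAut.conj s := by
  obtain ⟨s₀, hs₀, hs₁⟩ := exists_centre_ne h h2 B
  have hQα : ∀ x ∈ Q, α x ∈ Q := fun x hxQ => by
    have := mul_mem hxQ (centre_le (hx x hxQ))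
    rwa [mul_inv_cancel_left] at this
  set y₀ := t * s₀ * t with hy₀
  have htt : t * t = 1 := h.mul_self
  have hy1 : α y₀ ≠ 1 := fun e => hs₁ (by
    have e1 : y₀ = 1 := α.injective (e.trans (map_one α).symm)
    calc s₀ = t * y₀ * t := by rw [hy₀]; simp [mul_assoc, htt, ← mul_assoc t t]
      _ = 1 := by rw [e1, mul_one, htt])
  have hs₀2 : s₀ * s₀ = 1 := (B.omega s₀ (centre_le hs₀)).2 hs₀
  have hy2' : y₀ * y₀ = 1 := by
    rw [hy₀, show t * s₀ * t * (t * s₀ * t) = t * s₀ * (t * t) * s₀ * t by group, htt, mul_one,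
      mul_assoc t s₀ s₀, hs₀2, mul_one, htt]
  have hy2 : α y₀ * α y₀ = 1 := by rw [← map_mul, hy2', map_one]
  obtain ⟨p, hp⟩ := Setup.exists_fixed h hy1 hy2
  have hpa : p ≠ a := fun e => by
    have h1 : α y₀ ∈ Q := Setup.mem_Q_of_ii h ⟨mem_stabilizer_iff.2 (e ▸ hp), hy1, hy2⟩
    have h1c : α y₀ ∈ centre Q := (B.omega _ h1).1 hy2
    rw [α.injective (hz _ h1c)] at h1c
    have h3 : y₀ • a = a := h.le (centre_le h1c)
    have h4 : (t * s₀ * t) • (t • a) = t • a := by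
      rw [← mul_smul, mul_assoc (t * s₀), htt, mul_one, mul_smul, (h.le (centre_le hs₀) : s₀ • a = a)]
    refine Setup.t_smul_ne h (Setup.fixed_unique h ?_ hy2' h4 h3)
    exact fun e1 => hy1 (by rw [e1, map_one])
  obtain ⟨⟨s, hsQ⟩, hsp, -⟩ := Setup.regular h (Setup.t_smul_ne h) hpa
  simp only at hsp
  set β : MulAut L := (MulAut.conj s)⁻¹ * α with hβ
  have hβa : ∀ x, β x = s⁻¹ * α x * s := fun x => by
    rw [hβ, MulAut.mul_apply, MulAut.conj_inv_apply]
  have hβz : ∀ z ∈ centre Q, β z = z := fun z hzc => by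
    rw [hβa, hz z hzc, mul_assoc, centre_comm hzc hsQ, inv_mul_cancel_left]
  have hβx : ∀ x ∈ Q, x⁻¹ * β x ∈ centre Q := fun x hxQ => by
    have e : x⁻¹ * β x = ⁅x⁻¹, s⁻¹⁆ * (x⁻¹ * α x) := by
      obtain ⟨z, hzd⟩ : ∃ z, z = x⁻¹ * α x := ⟨_, rfl⟩
      have hzc : z ∈ centre Q := hzd ▸ hx x hxQ
      rw [hβa, ← hzd, show α x = x * z by rw [hzd, mul_inv_cancel_left], commutatorElement_def]
      calc x⁻¹ * (s⁻¹ * (x * z) * s) = x⁻¹ * s⁻¹ * x * (z * s) := by group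
        _ = x⁻¹ * s⁻¹ * x * (s * z) := by rw [centre_comm hzc hsQ]
        _ = _ := by group
    rw [e]
    exact mul_mem (B.comm _ (inv_mem hxQ) _ (inv_mem hsQ)) (hx x hxQ)
  have hβQ : ∀ x ∈ Q, β x ∈ Q := fun x hxQ => by
    have := mul_mem hxQ (centre_le (hβx x hxQ))
    rwa [mul_inv_cancel_left] at this
  have hβy : β y₀ • (t • a) = t • a := by
    rw [hβa, mul_smul, mul_smul, hsp, hp, ← hsp, inv_smul_smul]
  have hβy1 : β y₀ ≠ 1 := fun e => hy1 (by
    rw [hβa] at e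
    calc α y₀ = s * (s⁻¹ * α y₀ * s) * s⁻¹ := by group
      _ = 1 := by rw [e]; group)
  have hβy2 : β y₀ * β y₀ = 1 := by rw [← map_mul, hy2', map_one]
  -- `β` fixes the second point
  have hfix2 : ∀ g : L, g • (t • a) = t • a → β g • (t • a) = t • a := fun g hg => by
    set y₁ := g * y₀ * g⁻¹
    have hzt : ∀ z ∈ centre Q, β (t * z * t) • (t • a) = t • a := fun z hzc => by
      by_cases hzs : t * z * t = 1
      · rw [hzs, map_one, one_smul]
      have hc : (t * z * t) * y₀ = y₀ * (t * z * t) := by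
        rw [hy₀, show t * z * t * (t * s₀ * t) = t * z * (t * t) * s₀ * t by group,
          show t * s₀ * t * (t * z * t) = t * s₀ * (t * t) * z * t by group, htt, mul_one, mul_one,
          mul_assoc t z s₀, centre_comm hzc (centre_le hs₀), ← mul_assoc t s₀ z]
      refine Setup.fixed_unique h hβy1 hβy2 ?_ hβy
      rw [← mul_smul, ← map_mul, ← hc, map_mul, mul_smul, hβy]
    -- the conjugate of `y₀` by `g` is an involution fixing `t • a`
    have hy1' : y₁ ∈ (centre Q).map (MulAut.conj t).toMonoidHom := by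
      have h5 : (t * g * t) • a = a := by
        rw [mul_smul, mul_smul, hg, ← mul_smul, htt, one_smul]
      refine ⟨t * g * t * s₀ * (t * g * t)⁻¹, conj_centre (stab_le_normalizer h h5) hs₀, ?_⟩
      show t * (t * g * t * s₀ * (t * g * t)⁻¹) * t⁻¹ = g * (t * s₀ * t) * g⁻¹
      calc t * (t * g * t * s₀ * (t * g * t)⁻¹) * t⁻¹
          = (t * t) * g * t * s₀ * t⁻¹ * g⁻¹ * (t * t)⁻¹ := by group
        _ = g * (t * s₀ * t) * g⁻¹ := by
          rw [htt, inv_eq_of_mul_eq_one_right htt, one_mul, inv_one, mul_one]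
          group
    obtain ⟨z, hzc, hze⟩ := hy1'
    have hze' : y₁ = t * z * t := by
      rw [← hze]
      show t * z * t⁻¹ = _
      rw [inv_eq_of_mul_eq_one_right htt]
    have h6 := hzt z hzc
    rw [← hze', show β y₁ = β g * β y₀ * (β g)⁻¹ by rw [← map_inv, ← map_mul, ← map_mul]] at h6
    rw [mul_smul, mul_smul] at h6
    have h7 : β y₀ • ((β g)⁻¹ • t • a) = (β g)⁻¹ • t • a := by
      rw [eq_inv_smul_iff]; exact h6
    have h8 := Setup.fixed_unique h hβy1 hβy2 h7 hβy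
    rwa [inv_smul_eq_iff, eq_comm] at h8
  -- on the two-point stabiliser
  have hDD : ∀ c ∈ stabilizer L a ⊓ stabilizer L (t • a), β c = c := fun c hc => by
    have hcn := stab_le_normalizer h hc.1
    obtain ⟨hq1, hq2⟩ := conj_mem_of_fixes hcn hβx hβz
    have hβc : β c • a = a := by
      refine Setup.fixed_unique h hs₁ hs₀2 ?_ (h.le (centre_le hs₀))
      have h1 : (β c)⁻¹ * s₀ * β c ∈ centre Q := by
        have e : (β c)⁻¹ * s₀ * β c = β (c⁻¹ * s₀ * c) := by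
          rw [map_mul, map_mul, map_inv, hβz s₀ hs₀]
        have hm : c⁻¹ * s₀ * c ∈ centre Q := by
          have := conj_centre (inv_mem hcn) hs₀
          rwa [inv_inv] at this
        rw [e, hβz _ hm]
        exact hm
      have h2' : ((β c)⁻¹ * s₀ * β c) • a = a := h.le (centre_le h1)
      rwa [mul_smul, mul_smul, inv_smul_eq_iff] at h2'
    have hem : c⁻¹ * β c ∈ stabilizer L a ⊓ stabilizer L (t • a) :=
      ⟨(stabilizer L a).mul_mem ((stabilizer L a).inv_mem hc.1) hβc,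
        (stabilizer L (t • a)).mul_mem ((stabilizer L (t • a)).inv_mem hc.2)
          (mem_stabilizer_iff.2 (hfix2 c hc.2))⟩
    refine (inv_mul_eq_one.1 (eq_one_of_trivial h h2 B hem (fun z hzc => ?_) fun x hxQ => ?_)).symm
    · calc c⁻¹ * β c * z * (c⁻¹ * β c)⁻¹ = c⁻¹ * (β c * z * (β c)⁻¹) * c := by group
        _ = z := by rw [hq2 z hzc]; group
    · obtain ⟨w, hw, hwe⟩ := hq1 x hxQ
      have e : x⁻¹ * (c⁻¹ * β c * x * (c⁻¹ * β c)⁻¹) = c⁻¹ * w * c⁻¹⁻¹ := by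
        calc x⁻¹ * (c⁻¹ * β c * x * (c⁻¹ * β c)⁻¹) = x⁻¹ * (c⁻¹ * (β c * x * (β c)⁻¹) * c) := by group
          _ = _ := by rw [hwe]; group
      rw [e]
      exact conj_centre (inv_mem hcn) hw
  -- on `Q`
  have hQ1 : ∀ x ∈ Q, β x = x := by
    rcases D.kind with hP | ⟨-, hne, -⟩
    · exact fun x hxQ => hβz x ⟨hxQ, hP hxQ⟩
    intro x hxQ
    classical
    choose! g hg hge using fun (u : F) (hu : u ∈ coordGroup D) => (hu : ∃ x ∈ (Q : Set L), φ x = u)
    have hwell : ∀ x ∈ Q, ∀ x' ∈ Q, φ x = φ x' → x'⁻¹ * β x' = x⁻¹ * β x := by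
      intro x hx x' hx' e
      obtain ⟨w, hwd⟩ : ∃ w, w = x⁻¹ * x' := ⟨_, rfl⟩
      have hw : w ∈ centre Q := hwd ▸ φ_eq D hx hx' e
      rw [show x' = x * w by rw [hwd, mul_inv_cancel_left], map_mul, hβz w hw, mul_inv_rev,
        mul_assoc w⁻¹, ← mul_assoc x⁻¹, ← mul_assoc, mul_assoc]
      rw [← centre_comm hw (centre_le (hβx x hx)), inv_mul_cancel_left]
    have hV : ∀ u ∈ coordGroup D, l * u ∈ coordGroup D := by
      rintro _ ⟨x, hx, rfl⟩
      exact ⟨k * x * k⁻¹, (mem_normalizer_iff.1 D.mem x).1 hx, D.φ_conj x hx⟩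
    have hk : ∀ x ∈ Q, (k * x * k⁻¹)⁻¹ * β (k * x * k⁻¹) = k * (x⁻¹ * β x) * k⁻¹ := fun x hx => by
      obtain ⟨y, hy, d, hd, hyd⟩ := Setup.exists_decomp h (normalizer_le_stab h D.mem)
      obtain ⟨w, hwd⟩ : ∃ w, w = y⁻¹ * β y := ⟨_, rfl⟩
      have hw : w ∈ centre Q := hwd ▸ hβx y hy
      have hβk : β k = y * w * d := by
        rw [← hyd, map_mul, hDD d hd, hwd, mul_inv_cancel_left]
      have hdn : d ∈ normalizer (Q : Set L) := stab_le_normalizer h hd.1
      have hw' : d⁻¹ * w * d ∈ centre Q := by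
        have := conj_centre (inv_mem hdn) hw
        rwa [inv_inv] at this
      rw [map_mul, map_mul, map_inv, hβk, show y * w * d = k * (d⁻¹ * w * d) by rw [← hyd]; group]
      obtain ⟨v, hvd⟩ : ∃ v, v = d⁻¹ * w * d := ⟨_, rfl⟩
      rw [← hvd]
      have hvc := centre_comm (hvd ▸ hw' : v ∈ centre Q) (hβQ x hx)
      calc (k * x * k⁻¹)⁻¹ * (k * v * β x * (k * v)⁻¹)
          = k * x⁻¹ * (v * β x) * v⁻¹ * k⁻¹ := by group
        _ = k * x⁻¹ * (β x * v) * v⁻¹ * k⁻¹ := by rw [hvc]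
        _ = k * (x⁻¹ * β x) * k⁻¹ := by group
    have key := hom_eq_zero hV (fun u => ψ ((g u)⁻¹ * β (g u)))
      (fun u hu u' hu' => by
        show ψ ((g (u + u'))⁻¹ * β (g (u + u'))) = _
        rw [← D.ψ_mul _ (hβx _ (hg u hu)) _ (hβx _ (hg u' hu')),
          hwell _ (mul_mem (hg u hu) (hg u' hu')) _ (hg _ ((coordGroup D).add_mem hu hu')) (by
            rw [D.φ_mul _ (hg u hu) _ (hg u' hu'), hge u hu, hge u' hu',
              hge _ ((coordGroup D).add_mem hu hu')])]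
        congr 1
        have hc1 := centre_comm (hβx _ (hg u hu)) (hg u' hu')
        calc (g u * g u')⁻¹ * β (g u * g u') = (g u')⁻¹ * ((g u)⁻¹ * β (g u)) * β (g u') := by
              rw [map_mul]; group
          _ = (g u')⁻¹ * (((g u)⁻¹ * β (g u)) * g u') * ((g u')⁻¹ * β (g u')) := by group
          _ = (g u')⁻¹ * (g u' * ((g u)⁻¹ * β (g u))) * ((g u')⁻¹ * β (g u')) := by rw [hc1]
          _ = _ := by group)
      (fun u hu => by
        show ψ ((g (l * u))⁻¹ * β (g (l * u))) = n * ψ ((g u)⁻¹ * β (g u))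
        rw [← D.ψ_conj _ (hβx _ (hg u hu)), ← hk _ (hg u hu),
          hwell _ ((mem_normalizer_iff.1 D.mem _).1 (hg u hu)) _ (hg _ (hV u hu)) (by
            rw [D.φ_conj _ (hg u hu), hge u hu, hge _ (hV u hu)])])
      hne (φ x) ⟨x, hxQ, rfl⟩
    rw [hwell _ hxQ _ (hg _ ⟨x, hxQ, rfl⟩) (hge _ ⟨x, hxQ, rfl⟩).symm] at key
    exact (inv_mul_eq_one.1 (D.ψ_inj _ (hβx x hxQ) key)).symm
  have hstab : ∀ g : L, g • a = a → β g = g := fun g hg => by
    obtain ⟨y, hy, d, hd, rfl⟩ := Setup.exists_decomp h (g := g) hg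
    rw [map_mul, hQ1 y hy, hDD d hd]
  choose rep hrep using Setup.exists_smul_a h
  let f : Ω → Ω := fun p => β (rep p) • a
  have hf : ∀ g : L, f (g • a) = β g • a := fun g => by
    show β (rep (g • a)) • a = β g • a
    have h1 : (g⁻¹ * rep (g • a)) • a = a := by rw [mul_smul, hrep, inv_smul_smul]
    have h3 : β (g⁻¹ * rep (g • a)) • a = a := by rw [hstab _ h1]; exact h1
    rw [map_mul, mul_smul, map_inv, inv_smul_eq_iff] at h3
    exact h3
  have hf' : ∀ (g : L) (p : Ω), f (g • p) = β g • f p := fun g p => by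
    rw [← hrep p, ← mul_smul, hf, hf, map_mul, mul_smul]
  have hfb : f (t • a) = t • a := by
    refine Setup.fixed_unique h hβy1 hβy2 ?_ hβy
    rw [← hf']
    congr 1
    rw [hy₀, ← mul_smul, mul_assoc (t * s₀), htt, mul_one, mul_smul,
      (h.le (centre_le hs₀) : s₀ • a = a)]
  have hall : ∀ p : Ω, f p = p := fun p => by
    by_cases hpq : p = a
    · rw [hpq]
      have h1 := hf 1
      rwa [one_smul, map_one, one_smul] at h1
    · obtain ⟨⟨x, hxQ⟩, hxe, -⟩ := Setup.regular h (Setup.t_smul_ne h) hpq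
      simp only at hxe
      rw [← hxe, hf', hQ1 x hxQ, hfb]
  have hβ1 : β = 1 := MulEquiv.ext fun g => FaithfulSMul.eq_of_smul_eq_smul (α := Ω) fun p => by
    show β g • p = g • p
    conv_rhs => rw [← hall (g • p), hf', hall p]
  refine ⟨s, hsQ, ?_⟩
  rw [hβ, inv_mul_eq_one] at hβ1
  exact hβ1.symm

omit [MulAction L Ω] [FaithfulSMul L Ω] in
/-- All the facts from a set-up with data on its kernel. -/
theorem rankFacts_of_setup [MulAction L Ω] [FaithfulSMul L Ω] (h : Cfsg.IsRankOneSetup L Ω a t Q)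
    (h2 : ∃ x y : L, x ≠ 1 ∧ y ≠ 1 ∧ x ≠ y ∧ x * x = 1 ∧ y * y = 1 ∧ x * y = y * x)
    (hQ : IsPGroup 2 ↥Q) (hpow : ∃ m : ℕ, 2 ≤ m ∧ q = 2 ^ m) (hs : IsSimpleGroup L)
    (hz : Subgroup.center L = ⊥) (B : Basic Q q) (D : Data Q q) : RankFacts L q := by
  haveI : Fact (Nat.Prime 2) := ⟨Nat.prime_two⟩
  have hP : ∀ P : Sylow 2 L, ∃ (t' : L) (_ : MulAction L Ω) (_ : FaithfulSMul L Ω) (a' : Ω),
      Cfsg.IsRankOneSetup L Ω a' t' (P : Subgroup L) ∧
      Basic (P : Subgroup L) q ∧ Data (P : Subgroup L) q := fun P => by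
    obtain ⟨g, hg⟩ := Facts.exists_conj_kernel h hQ P
    obtain ⟨hf, h'⟩ := setup_comap h (MulAut.conj g⁻¹)
    have e : Q.map (MulAut.conj g⁻¹).symm.toMonoidHom = (P : Subgroup L) := SetLike.ext fun x => by
      rw [Subgroup.mem_map_equiv, MulEquiv.symm_symm, MulAut.conj_apply, inv_inv]
      exact (hg x).symm
    exact ⟨_, MulAction.compHom Ω (MulAut.conj g⁻¹).toMonoidHom, hf, a, e ▸ h',
      e ▸ B.map (MulAut.conj g⁻¹).symm, e ▸ D.map (MulAut.conj g⁻¹).symm⟩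
  refine ⟨hpow, hs, hz, fun P => ?_, fun P => ?_, fun P => ?_, fun P => ?_, fun P z hzc hz1 => ?_,
    fun P => ?_, fun P => ?_, fun P α hα hαx => ?_, fun h4 P => ?_⟩ <;>
    obtain ⟨t', _, _, a', h', B', F, _, _, _, k, φ, ψ, l, n, D'⟩ := hP P
  · exact B'.card_centre
  · exact B'.omega
  · exact B'.sq
  · exact B'.comm
  · exact centralizer_le h' B' hzc hz1
  · exact solvable_normalizer D' P.2
  · exact ⟨k, exists_torus h' h2 B' D'⟩
  · exact autInner h' h2 B' D' hα hαx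
  · exact B'.small h4

end Cfsg.Agent.Goldschmidt.General.Rank
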