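import Cfsg.Agent.Lib.Goldschmidt.General.RankFacts.Generic

/-!
# Tools for the three models (owner: helper72)

* `dec_of_card` : a complement of a 2-group in its normaliser from an element of the right odd order
* `not_dvd_two_pow_add_one` : `2^n - 1` does not divide `2^i + 1` for `n ≥ 3`
* `basic_range`, `mem_centre_range` : transfer along an injective homomorphism
* `Model`, `model_of_sylow` : a set-up with coordinates on the kernel
* `rankFacts_of_equiv` : the facts for a simple group isomorphic to a model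
-/

set_option autoImplicit false
set_option linter.unusedSectionVars false
set_option linter.style.haveILetI false

namespace Cfsg.Agent.Goldschmidt.General.Rank

open Cfsg Subgroup MulAction Cfsg.Agent.RankOne
open scoped commutatorElement

universe u v w

variable {L : Type u} [Group L]

/-- An element of odd order `m` gives a complement when `|N(Q)| ≤ |Q| m`. -/
theorem dec_of_card [Finite L] {Q : Subgroup L} (hQ : IsPGroup 2 ↥Q) {k : L}
    (hk : k ∈ normalizer (Q : Set L)) (hodd : Odd (orderOf k))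
    (hcard : Nat.card ↥(normalizer (Q : Set L)) ≤ Nat.card ↥Q * orderOf k) :
    ∀ c ∈ normalizer (Q : Set L), ∃ y ∈ Q, ∃ i : ℕ, c = y * k ^ i := by
  classical
  let f : ↥Q × Fin (orderOf k) → ↥(normalizer (Q : Set L)) := fun p =>
    ⟨(p.1 : L) * k ^ (p.2 : ℕ), mul_mem (le_normalizer p.1.2) (pow_mem hk _)⟩
  have hf : Function.Injective f := by
    rintro ⟨y, i⟩ ⟨y', j⟩ e
    have e' : (y : L) * k ^ (i : ℕ) = y' * k ^ (j : ℕ) := congrArg Subtype.val e
    have hmem : k ^ (i : ℕ) * (k ^ (j : ℕ))⁻¹ ∈ Q := by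
      rw [show k ^ (i : ℕ) * (k ^ (j : ℕ))⁻¹ = (y : L)⁻¹ * y' by
        rw [mul_inv_eq_iff_eq_mul, mul_assoc, ← e', inv_mul_cancel_left]]
      exact mul_mem (inv_mem y.2) y'.2
    obtain ⟨m, hm⟩ := hQ ⟨_, hmem⟩
    have hm' : (k ^ (i : ℕ) * (k ^ (j : ℕ))⁻¹) ^ 2 ^ m = 1 := congrArg Subtype.val hm
    have hz : k ^ (i : ℕ) * (k ^ (j : ℕ))⁻¹ ∈ zpowers k :=
      mul_mem (pow_mem (mem_zpowers k) _) (inv_mem (pow_mem (mem_zpowers k) _))
    have h1 : orderOf (k ^ (i : ℕ) * (k ^ (j : ℕ))⁻¹) ∣ orderOf k := by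
      exact (Subgroup.orderOf_dvd_natCard _ hz).trans (dvd_of_eq (Nat.card_zpowers k))
    have h2 := orderOf_eq_one_iff.1 (Nat.eq_one_of_dvd_coprimes
      ((Nat.coprime_two_left.2 hodd).pow_left m) (orderOf_dvd_of_pow_eq_one hm') h1)
    rw [mul_inv_eq_one] at h2
    rw [h2] at e'
    exact Prod.ext (Subtype.ext (mul_right_cancel e')) (Fin.ext (pow_injOn_Iio_orderOf i.2 j.2 h2))
  have hb : Function.Bijective f := (Nat.bijective_iff_injective_and_card f).2 ⟨hf, le_antisymm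
    (Nat.card_le_card_of_injective f hf) (by rw [Nat.card_prod, Nat.card_fin]; exact hcard)⟩
  intro c hc
  obtain ⟨⟨y, i⟩, e⟩ := hb.2 ⟨c, hc⟩
  exact ⟨y, y.2, i, (congrArg Subtype.val e).symm⟩

theorem not_dvd_two_pow_add_one {n : ℕ} (hn : 3 ≤ n) (i : ℕ) : ¬ 2 ^ n - 1 ∣ 2 ^ i + 1 := by
  intro h
  have h1 : 2 ^ n ≡ 1 [MOD 2 ^ n - 1] :=
    ((Nat.modEq_iff_dvd' (Nat.one_le_two_pow)).2 dvd_rfl).symm
  have h2 : 2 ^ i + 1 ≡ 2 ^ (i % n) + 1 [MOD 2 ^ n - 1] := by
    refine Nat.ModEq.add_right 1 ?_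
    conv_lhs => rw [← Nat.mod_add_div i n, pow_add, pow_mul]
    simpa using (Nat.ModEq.refl (2 ^ (i % n))).mul (h1.pow (i / n))
  have h3 : 2 ^ n - 1 ∣ 2 ^ (i % n) + 1 := (h2.dvd_iff dvd_rfl).1 h
  have h4 : 2 ^ (i % n) ≤ 2 ^ (n - 1) :=
    Nat.pow_le_pow_right (by norm_num) (by have := Nat.mod_lt i (by omega : n > 0); omega)
  have h5 : 2 ^ n = 2 * 2 ^ (n - 1) := by rw [← pow_succ']; congr 1; omega
  have h6 : 4 ≤ 2 ^ (n - 1) :=
    le_trans (by norm_num : 4 ≤ 2 ^ 2) (Nat.pow_le_pow_right (by norm_num) (by omega))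
  have h7 := Nat.le_of_dvd (Nat.succ_pos _) h3
  generalize 2 ^ (i % n) = c at h4 h7
  generalize 2 ^ (n - 1) = b at h4 h5 h6
  generalize 2 ^ n = a at h5 h7
  omega

section range

variable {P : Type v} [Group P] {π : P →* L} (hπ : Function.Injective π)
include hπ

theorem mem_centre_range {u : P} : π u ∈ centre π.range ↔ u ∈ Subgroup.center P := by
  rw [mem_centre, Subgroup.mem_center_iff]
  refine ⟨fun h v => hπ ?_, fun h => ⟨⟨u, rfl⟩, ?_⟩⟩
  · rw [map_mul, map_mul]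
    exact h.2 (π v) ⟨v, rfl⟩
  · rintro _ ⟨v, rfl⟩
    rw [← map_mul, ← map_mul, h v]

theorem centre_range : centre π.range = (Subgroup.center P).map π := by
  ext x
  refine ⟨fun h => ?_, fun h => ?_⟩
  · obtain ⟨u, rfl⟩ := (mem_centre.1 h).1
    exact ⟨u, (mem_centre_range hπ).1 h, rfl⟩
  · obtain ⟨u, hu, rfl⟩ := h
    exact (mem_centre_range hπ).2 hu

theorem basic_range {q : ℕ} (hz : Nat.card ↥(Subgroup.center P) = q)
    (homega : ∀ u : P, u * u = 1 ↔ u ∈ Subgroup.center P) (hsq : ∀ u : P, u * u ∈ Subgroup.center P)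
    (hcomm : ∀ u v : P, ⁅u, v⁆ ∈ Subgroup.center P)
    (hsmall : q = 4 → ∀ u : P, u ∉ Subgroup.center P → ∀ z ∈ Subgroup.center P, ∃ r : P, z = ⁅r, u⁆) :
    Basic π.range q := by
  refine ⟨?_, ?_, ?_, ?_, ?_⟩
  · rw [centre_range hπ, ← hz]
    exact (Nat.card_congr (Subgroup.equivMapOfInjective _ π hπ).toEquiv).symm
  · rintro _ ⟨u, rfl⟩
    rw [mem_centre_range hπ, ← homega, ← map_mul]
    exact ⟨fun e => hπ (e.trans (map_one π).symm), fun e => by rw [e, map_one]⟩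
  · rintro _ ⟨u, rfl⟩
    rw [← map_mul, mem_centre_range hπ]
    exact hsq u
  · rintro _ ⟨u, rfl⟩ _ ⟨v, rfl⟩
    rw [← map_commutatorElement, mem_centre_range hπ]
    exact hcomm u v
  · rintro hq _ ⟨u, rfl⟩ hu _ hzc
    obtain ⟨z, hz', rfl⟩ := (centre_range hπ).le hzc
    obtain ⟨r, hr⟩ := hsmall hq u (fun hc => hu ((mem_centre_range hπ).2 hc)) z hz'
    exact ⟨π r, ⟨r, rfl⟩, by rw [hr, map_commutatorElement]⟩

end range

/-- The normaliser of the kernel is the point stabiliser. -/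
theorem card_normalizer [Finite L] {Ω : Type w} [MulAction L Ω] [FaithfulSMul L Ω] {a : Ω} {t : L}
    {Q : Subgroup L} (h : Cfsg.IsRankOneSetup L Ω a t Q) :
    Nat.card L = Nat.card ↥(normalizer (Q : Set L)) * (Nat.card Q + 1) := by
  rw [le_antisymm (normalizer_le_stab h) (stab_le_normalizer h), Setup.card_stabilizer h]
  exact Setup.card_group h

/-- A rank one set-up with coordinates on its kernel. -/
def Model (M : Type v) [Group M] (q : ℕ) : Prop :=
  ∃ (Ω : Type) (_ : MulAction M Ω) (_ : FaithfulSMul M Ω) (a : Ω) (t : M) (Q : Subgroup M),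
    Cfsg.IsRankOneSetup M Ω a t Q ∧
    (∃ x y : M, x ≠ 1 ∧ y ≠ 1 ∧ x ≠ y ∧ x * x = 1 ∧ y * y = 1 ∧ x * y = y * x) ∧
    IsPGroup 2 ↥Q ∧ (∃ m : ℕ, 2 ≤ m ∧ q = 2 ^ m) ∧ Basic Q q ∧ Data Q q

/-- Data on any Sylow 2-subgroup gives a model. -/
theorem model_of_sylow [Finite L] {Ω : Type} [MulAction L Ω] [FaithfulSMul L Ω] {a : Ω} {t : L}
    {Q : Subgroup L} {q : ℕ} (h : Cfsg.IsRankOneSetup L Ω a t Q)
    (h2 : ∃ x y : L, x ≠ 1 ∧ y ≠ 1 ∧ x ≠ y ∧ x * x = 1 ∧ y * y = 1 ∧ x * y = y * x)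
    (hQ : IsPGroup 2 ↥Q) (hpow : ∃ m : ℕ, 2 ≤ m ∧ q = 2 ^ m) (P : Sylow 2 L)
    (B : Basic (P : Subgroup L) q) (D : Data (P : Subgroup L) q) : Model L q := by
  obtain ⟨g, hg⟩ := Facts.exists_conj_kernel h hQ P
  have e : (P : Subgroup L).map (MulAut.conj g⁻¹).toMonoidHom = Q := SetLike.ext fun x => by
    rw [Subgroup.mem_map_equiv, MulAut.conj_symm_apply, inv_inv]
    show g * x * g⁻¹ ∈ P ↔ x ∈ Q
    rw [hg, show g⁻¹ * (g * x * g⁻¹) * g = x by group]
  exact ⟨Ω, ‹_›, ‹_›, a, t, Q, h, h2, hQ, hpow, e ▸ B.map (MulAut.conj g⁻¹),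
    e ▸ D.map (MulAut.conj g⁻¹)⟩

/-- A simple group with a set-up is centre-free. -/
theorem center_eq_bot [Finite L] {Ω : Type w} [MulAction L Ω] [FaithfulSMul L Ω] {a : Ω} {t : L}
    {Q : Subgroup L} (h : Cfsg.IsRankOneSetup L Ω a t Q) [IsSimpleGroup L] : Subgroup.center L = ⊥ := by
  refine (inferInstance : (Subgroup.center L).Normal).eq_bot_or_eq_top.resolve_right fun htop => ?_
  obtain ⟨x, hx, hx1⟩ := Setup.exists_ne_one h
  refine hx1 (Setup.eq_one_of_fix h hx (Setup.t_smul_ne h) ?_)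
  rw [← mul_smul, ← mem_center_iff.1 (htop.ge (mem_top x)) t, mul_smul, (h.le hx : x • a = a)]

/-- A simple group isomorphic to a model satisfies the facts. -/
theorem rankFacts_of_equiv {M : Type v} [Group M] [Finite L] [IsSimpleGroup L] {q : ℕ}
    (hM : Model M q) (e : L ≃* M) : RankFacts L q := by
  obtain ⟨Ω, _, _, a, t, Q, h, ⟨x, y, hx1, hy1, hxy, hxx, hyy, hc⟩, hQ, hpow, B, D⟩ := hM
  obtain ⟨hf, h'⟩ := setup_comap h e
  letI := MulAction.compHom Ω e.toMonoidHom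
  haveI := hf
  have h2' : ∃ x y : L, x ≠ 1 ∧ y ≠ 1 ∧ x ≠ y ∧ x * x = 1 ∧ y * y = 1 ∧ x * y = y * x :=
    ⟨e.symm x, e.symm y, fun h => hx1 (e.symm.injective (h.trans (map_one e.symm).symm)),
      fun h => hy1 (e.symm.injective (h.trans (map_one e.symm).symm)),
      fun h => hxy (e.symm.injective h), by rw [← map_mul, hxx, map_one],
      by rw [← map_mul, hyy, map_one], by rw [← map_mul, hc, map_mul]⟩
  exact rankFacts_of_setup h' h2'
    (hQ.of_equiv (Q.equivMapOfInjective e.symm.toMonoidHom e.symm.injective))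
    hpow inferInstance (center_eq_bot h') (B.map e.symm) (D.map e.symm)

end Cfsg.Agent.Goldschmidt.General.Rank
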